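import Groth.Agent.FunFld1.Extension
import Mathlib.FieldTheory.Finite.Basic
import Mathlib.FieldTheory.Minpoly.Field

/-!
The fibre of a finite Galois extension over a place at which some element separates the
conjugates: it is unramified and the decomposition group is generated by a Frobenius element.
-/

set_option linter.style.haveILetI false
set_option linter.unusedSectionVars false

namespace Groth.FunFld1

open WithZero FunFld Polynomial

variable {k K K' : Type*} [Field k] [Field K] [Field K'] [Algebra k K] [Algebra K K'] [Algebra k K']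
  [IsScalarTower k K K']

/-- The inclusion of valuation rings. -/
noncomputable def inclO {Q : Place k K'} {P : Place k K} (h : IsOver Q P) : P.O →+* Q.O :=
  ((algebraMap K K').comp P.O.subtype).codRestrict Q.O.toSubring fun a =>
    (over_le_one_iff h a.1).mpr a.2

theorem coe_inclO {Q : Place k K'} {P : Place k K} (h : IsOver Q P) (a : P.O) :
    (inclO h a : K') = algebraMap K K' a.1 := rfl

theorem isLocalHom_inclO {Q : Place k K'} {P : Place k K} (h : IsOver Q P) :
    IsLocalHom ((IsLocalRing.residue Q.O).comp (inclO h)) := by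
  constructor
  intro a ha
  by_contra hu
  have h1 : P.1 a.1 < 1 :=
    (residue_eq_zero_iff P a).mp ((IsLocalRing.residue_eq_zero_iff a).mpr hu)
  refine ha.ne_zero ?_
  exact (residue_eq_zero_iff Q (inclO h a)).mpr ((over_lt_one_iff h a.1).mpr h1)

/-- The residue field map. -/
noncomputable def resMap {Q : Place k K'} {P : Place k K} (h : IsOver Q P) :
    IsLocalRing.ResidueField P.O →+* IsLocalRing.ResidueField Q.O :=
  haveI := isLocalHom_inclO h
  IsLocalRing.ResidueField.lift ((IsLocalRing.residue Q.O).comp (inclO h))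

theorem resMap_residue {Q : Place k K'} {P : Place k K} (h : IsOver Q P) (a : P.O) :
    resMap h (IsLocalRing.residue P.O a) = IsLocalRing.residue Q.O (inclO h a) := rfl

theorem resMap_algebraMap {Q : Place k K'} {P : Place k K} (h : IsOver Q P) (c : k) :
    resMap h (algebraMap k (IsLocalRing.ResidueField P.O) c) =
      algebraMap k (IsLocalRing.ResidueField Q.O) c :=
  congrArg (IsLocalRing.residue Q.O) (Subtype.ext (IsScalarTower.algebraMap_apply k K K' c).symm)

theorem residue_eq_iff (P : Place k K) (a b : P.O) :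
    IsLocalRing.residue P.O a = IsLocalRing.residue P.O b ↔ P.1 (a.1 - b.1) < 1 := by
  rw [← sub_eq_zero, ← map_sub, residue_eq_zero_iff]
  rfl

theorem card_residueField [Finite k] (hF : IsFF k K) (P : Place k K) :
    Nat.card (IsLocalRing.ResidueField P.O) = Nat.card k ^ P.deg := by
  haveI := hF.finiteDimensional_residueField P
  exact Module.natCard_eq_pow_finrank (K := k)

theorem deg_dvd_deg (hF : IsFF k K) {Q : Place k K'} {P : Place k K} (h : IsOver Q P) :
    P.deg ∣ Q.deg := by
  letI := (resMap h).toAlgebra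
  haveI : IsScalarTower k (IsLocalRing.ResidueField P.O) (IsLocalRing.ResidueField Q.O) :=
    IsScalarTower.of_algebraMap_eq fun c => (resMap_algebraMap h c).symm
  have key := @Module.finrank_mul_finrank k (IsLocalRing.ResidueField P.O)
    (IsLocalRing.ResidueField Q.O) _ _ _ _ _ _
    ‹IsScalarTower k (IsLocalRing.ResidueField P.O) (IsLocalRing.ResidueField Q.O)›
  exact ⟨_, key.symm⟩

variable [Finite k] [FiniteDimensional K K'] [IsGalois K K']

set_option maxHeartbeats 1000000 in
/-- Over a place at which `θ` separates the conjugates, the extension is unramified, and the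
decomposition group is generated by a Frobenius element. -/
theorem sep_fibre (hF : IsFF k K) {Q : Place k K'} {P : Place k K} (h : IsOver Q P) {θ : K'}
    (hθ : ∀ σ : K' ≃ₐ[K] K', Q.1 (σ θ) ≤ 1)
    (hsep : ∀ σ τ : K' ≃ₐ[K] K', σ ≠ τ → ¬ Q.1 (σ θ - τ θ) < 1) :
    ramIdx Q P = 1 ∧
    (hF.above P : Finset (Place k K')).card * Q.deg = Module.finrank K K' * P.deg ∧
    (∀ m : ℕ, P.deg ∣ m → Q.1 (θ ^ (Nat.card k ^ m) - θ) < 1 → Q.deg ∣ m) ∧
    ∃ σ : K' ≃ₐ[K] K', comapPlace σ Q = Q ∧
      ∀ z : K', Q.1 z ≤ 1 → Q.1 (σ z - z ^ (Nat.card k ^ P.deg)) < 1 := by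
  classical
  have hF' : IsFF k K' := hF.ext
  set FP := IsLocalRing.ResidueField P.O
  set FQ := IsLocalRing.ResidueField Q.O
  letI : Algebra FP FQ := (resMap h).toAlgebra
  haveI htower : IsScalarTower k FP FQ :=
    IsScalarTower.of_algebraMap_eq fun c => (resMap_algebraMap h c).symm
  haveI hfinP := hF.finiteDimensional_residueField P
  haveI hfinQ := hF'.finiteDimensional_residueField Q
  haveI hfin : FiniteDimensional FP FQ := @Module.Finite.of_restrictScalars_finite k FP FQ _ _ _ _ _ _ htower _
  haveI : Finite FP := @Module.finite_of_finite k FP _ _ _ _ hfinP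
  haveI : Finite FQ := @Module.finite_of_finite k FQ _ _ _ _ hfinQ
  letI := Fintype.ofFinite FP
  have hcardP : Fintype.card FP = Nat.card k ^ P.deg := by
    rw [← Nat.card_eq_fintype_card]; exact card_residueField hF P
  set θi : (K' ≃ₐ[K] K') → Q.O := fun σ => ⟨σ θ, hθ σ⟩
  set θb := IsLocalRing.residue Q.O (θi 1) with hθb
  have hint : IsIntegral FP θb := IsIntegral.of_finite FP θb
  -- orbit and stabiliser
  set St := Finset.univ.filter fun σ : K' ≃ₐ[K] K' => comapPlace σ Q = Q
  have hcount : (hF.above P : Finset (Place k K')).card * St.card = Module.finrank K K' := by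
    rw [← IsGalois.card_aut_eq_finrank K K', Nat.card_eq_fintype_card, ← Finset.card_univ,
      Finset.card_eq_sum_card_fiberwise (s := (Finset.univ : Finset (K' ≃ₐ[K] K')))
        (f := fun σ : K' ≃ₐ[K] K' => comapPlace σ Q)
        (t := hF.above P) fun σ _ => hF.mem_above.mpr
          (overWith_isOver (isOverWith_comapPlace σ (isOverWith_ramIdx h)))]
    refine Eq.symm ((Finset.sum_congr rfl (g := fun _ => St.card) fun R hR => ?_).trans
      (by rw [Finset.sum_const, smul_eq_mul]))
    obtain ⟨τ, rfl⟩ := exists_comapPlace_of_isOver h (hF.mem_above.mp hR)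
    refine Finset.card_bij (fun σ _ => σ * τ⁻¹) (fun σ hσ => ?_)
      (fun a _ b _ e => mul_right_cancel e) (fun σ hσ => ⟨σ * τ, ?_, mul_inv_cancel_right σ τ⟩)
    · simp only [Finset.mem_filter, Finset.mem_univ, true_and, St] at hσ ⊢
      refine Subtype.ext (Valuation.ext fun x => ?_)
      show Q.1 (σ (τ⁻¹ x)) = Q.1 x
      have := congrArg (fun R : Place k K' => R.1 (τ⁻¹ x)) hσ
      simp only [comapPlace_apply] at this
      rw [this]
      simp
    · simp only [Finset.mem_filter, Finset.mem_univ, true_and, St] at hσ ⊢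
      refine Subtype.ext (Valuation.ext fun x => ?_)
      show Q.1 (σ (τ x)) = Q.1 (τ x)
      have := congrArg (fun R : Place k K' => R.1 (τ x)) hσ
      simpa only [comapPlace_apply] using this
  have hsum : (hF.above P : Finset (Place k K')).card * (ramIdx Q P * Q.deg) =
      Module.finrank K K' * P.deg := by
    rw [← hF.sum_ramIdx_deg (K' := K') P]
    refine Eq.symm ((Finset.sum_congr rfl (g := fun _ => ramIdx Q P * Q.deg) fun R hR => ?_).trans
      (by rw [Finset.sum_const, smul_eq_mul]))
    obtain ⟨τ, rfl⟩ := exists_comapPlace_of_isOver h (hF.mem_above.mp hR)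
    rw [ramIdx_eq (isOverWith_comapPlace τ (isOverWith_ramIdx h)), deg_comapPlace]
  -- conjugates of `θb` are roots of its minimal polynomial
  set p := minpoly FP θb
  have hroot : ∀ σ ∈ St, aeval (IsLocalRing.residue Q.O (θi σ)) p = 0 := by
    intro σ hσ
    simp only [Finset.mem_filter, Finset.mem_univ, true_and, St] at hσ
    obtain ⟨H, hH⟩ := Polynomial.map_surjective (IsLocalRing.residue P.O)
      IsLocalRing.residue_surjective p
    have key : ∀ z : Q.O, aeval (IsLocalRing.residue Q.O z) p =
        IsLocalRing.residue Q.O (H.eval₂ (inclO h) z) := by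
      intro z
      rw [← hH, aeval_def, eval₂_map, hom_eval₂]
      rfl
    have hcoe : ∀ z : Q.O, ((H.eval₂ (inclO h) z : Q.O) : K') =
        H.eval₂ ((algebraMap K K').comp P.O.subtype) z.1 := fun z =>
      hom_eval₂ H (inclO h) Q.O.subtype z
    rw [key, residue_eq_zero_iff, hcoe]
    have h0 := minpoly.aeval FP θb
    rw [key, residue_eq_zero_iff, hcoe] at h0
    have hσe : σ (H.eval₂ ((algebraMap K K').comp P.O.subtype) θ) =
        H.eval₂ ((algebraMap K K').comp P.O.subtype) (σ θ) := by
      rw [show σ (H.eval₂ ((algebraMap K K').comp P.O.subtype) θ) =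
        (σ : K' →+* K') (H.eval₂ ((algebraMap K K').comp P.O.subtype) θ) from rfl, hom_eval₂]
      congr 1
      ext a
      exact σ.commutes _
    show Q.1 (H.eval₂ ((algebraMap K K').comp P.O.subtype) (σ θ)) < 1
    rw [← hσe]
    have h1 : (θi 1).1 = θ := rfl
    rw [h1] at h0
    have h2 := congrArg (fun R : Place k K' => R.1 (H.eval₂ ((algebraMap K K').comp P.O.subtype) θ)) hσ
    simp only [comapPlace_apply] at h2
    rwa [h2]
  have hinj : Set.InjOn (fun σ => IsLocalRing.residue Q.O (θi σ)) (St : Set (K' ≃ₐ[K] K')) := by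
    intro σ _ τ _ e
    by_contra hne
    exact hsep σ τ hne ((residue_eq_iff Q _ _).mp e)
  have hp0 : p ≠ 0 := minpoly.ne_zero hint
  have hsub : St.image (fun σ => IsLocalRing.residue Q.O (θi σ)) ⊆ (p.aroots FQ).toFinset := by
    intro w hw
    obtain ⟨σ, hσ, rfl⟩ := Finset.mem_image.mp hw
    rw [Multiset.mem_toFinset, mem_aroots]
    exact ⟨hp0, hroot σ hσ⟩
  have hSt : St.card ≤ p.natDegree := by
    rw [← Finset.card_image_of_injOn hinj]
    refine (Finset.card_le_card hsub).trans ((Multiset.toFinset_card_le _).trans ?_)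
    rw [aroots_def]
    exact (card_roots' _).trans natDegree_map_le
  set f := Module.finrank FP FQ with hf
  have hjf : p.natDegree ≤ f := minpoly.natDegree_le θb
  have hdeg : Q.deg = P.deg * f := (@Module.finrank_mul_finrank k FP FQ _ _ _ _ _ _ htower).symm
  have hg : 0 < (hF.above P : Finset (Place k K')).card :=
    Finset.card_pos.mpr ⟨Q, hF.mem_above.mpr h⟩
  have he : 0 < ramIdx Q P := overWith_pos (isOverWith_ramIdx h)
  have hStf : ramIdx Q P * f = St.card := by
    rw [hdeg, ← hcount, mul_assoc] at hsum
    have h1 := Nat.eq_of_mul_eq_mul_left hg hsum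
    have hPd := hF.deg_pos P
    have h2 : P.deg * (ramIdx Q P * f) = P.deg * St.card := by linarith
    exact Nat.eq_of_mul_eq_mul_left hPd h2
  have hef : f ≤ ramIdx Q P * f := Nat.le_mul_of_pos_left f he
  have hj : p.natDegree = f := by omega
  have hfpos : 0 < f := Module.finrank_pos
  have he1 : ramIdx Q P = 1 := by
    have h1 : ramIdx Q P * f = 1 * f := by omega
    exact Nat.eq_of_mul_eq_mul_right hfpos h1
  have htop : Algebra.adjoin FP ({θb} : Set FQ) = ⊤ := by
    rw [← IntermediateField.adjoin_simple_toSubalgebra_of_isAlgebraic hint.isAlgebraic,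
      IntermediateField.eq_of_le_of_finrank_eq (F := IntermediateField.adjoin FP ({θb} : Set FQ))
        (E := ⊤) le_top (by rw [IntermediateField.adjoin.finrank hint, IntermediateField.finrank_top']; exact hj),
      IntermediateField.top_toSubalgebra]
  refine ⟨he1, by rw [he1, one_mul] at hsum; exact hsum, fun m hm hθm => ?_, ?_⟩
  · letI := Fintype.ofFinite k
    obtain ⟨c, hc⟩ := hm
    have hfix : ∀ z : FQ, z ^ (Nat.card k ^ m) = z := by
      let φ : FQ →ₐ[FP] FQ := FiniteField.frobeniusAlgHom FP FQ ^ c
      have hφ : ∀ z : FQ, φ z = z ^ (Nat.card k ^ m) := by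
        intro z
        rw [hc, pow_mul, ← hcardP]
        show (⇑(FiniteField.frobeniusAlgHom FP FQ ^ c)) z = _
        rw [AlgHom.coe_pow]
        induction c generalizing z with
        | zero => simp
        | succ c _ =>
          rw [FiniteField.coe_frobeniusAlgHom, pow_iterate]
      intro z
      have hz : z ∈ Algebra.adjoin FP ({θb} : Set FQ) := htop ▸ Algebra.mem_top
      rw [← hφ]
      have hle : Algebra.adjoin FP ({θb} : Set FQ) ≤ AlgHom.equalizer φ (AlgHom.id FP FQ) := by
        rw [Algebra.adjoin_le_iff, Set.singleton_subset_iff]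
        show φ θb = θb
        rw [hφ, hθb, ← map_pow, residue_eq_iff]
        exact hθm
      exact hle hz
    have h1 : FiniteField.frobeniusAlgHom k FQ ^ m = 1 := by
      refine AlgHom.ext fun z => ?_
      rw [AlgHom.coe_pow, FiniteField.coe_frobeniusAlgHom, pow_iterate, ← Nat.card_eq_fintype_card]
      exact hfix z
    have h2 := orderOf_dvd_of_pow_eq_one h1
    rwa [FiniteField.orderOf_frobeniusAlgHom] at h2
  · have hroots : (p.aroots FQ).toFinset = St.image (fun σ => IsLocalRing.residue Q.O (θi σ)) := by
      refine (Finset.eq_of_subset_of_card_le hsub ?_).symm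
      rw [Finset.card_image_of_injOn hinj]
      refine ((Multiset.toFinset_card_le _).trans ?_)
      rw [aroots_def]
      exact ((card_roots' _).trans natDegree_map_le).trans (by omega)
    have hfrob : aeval (θb ^ Fintype.card FP) p = 0 := by
      rw [show θb ^ Fintype.card FP = FiniteField.frobeniusAlgHom FP FQ θb from rfl,
        aeval_algHom_apply, minpoly.aeval, map_zero]
    have hm : θb ^ Fintype.card FP ∈ (p.aroots FQ).toFinset := by
      rw [Multiset.mem_toFinset, mem_aroots]
      exact ⟨hp0, hfrob⟩
    rw [hroots] at hm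
    obtain ⟨σ, hσ, hσθ⟩ := Finset.mem_image.mp hm
    simp only [Finset.mem_filter, Finset.mem_univ, true_and, St] at hσ
    refine ⟨σ, hσ, fun z hz => ?_⟩
    have hQσ : ∀ x : K', Q.1 (σ x) = Q.1 x := fun x => by
      have := congrArg (fun R : Place k K' => R.1 x) hσ
      simpa only [comapPlace_apply] using this
    -- the induced residue automorphism agrees with Frobenius
    let σO : Q.O →+* Q.O := ((σ : K' →+* K').comp Q.O.subtype).codRestrict Q.O.toSubring
      fun a => (hQσ a.1).trans_le a.2
    obtain ⟨q, hq⟩ : ∃ q : FP[X], aeval θb q = IsLocalRing.residue Q.O ⟨z, hz⟩ := by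
      have hmem : IsLocalRing.residue Q.O ⟨z, hz⟩ ∈ Algebra.adjoin FP ({θb} : Set FQ) :=
        htop ▸ Algebra.mem_top
      rw [Algebra.adjoin_singleton_eq_range_aeval] at hmem
      exact hmem
    obtain ⟨H, hH⟩ := Polynomial.map_surjective (IsLocalRing.residue P.O)
      IsLocalRing.residue_surjective q
    have key : ∀ w : Q.O, aeval (IsLocalRing.residue Q.O w) q =
        IsLocalRing.residue Q.O (H.eval₂ (inclO h) w) := by
      intro w
      rw [← hH, aeval_def, eval₂_map, hom_eval₂]
      rfl
    have hσH : σO (H.eval₂ (inclO h) (θi 1)) = H.eval₂ (inclO h) (θi σ) := by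
      rw [hom_eval₂]
      congr 1
      · ext a
        exact σ.commutes _
    have hmod : IsLocalRing.residue Q.O (σO ⟨z, hz⟩) =
        IsLocalRing.residue Q.O (σO (H.eval₂ (inclO h) (θi 1))) := by
      rw [residue_eq_iff]
      show Q.1 (σ z - σ ((H.eval₂ (inclO h) (θi 1)) : Q.O).1) < 1
      rw [← map_sub, hQσ]
      exact (residue_eq_iff Q ⟨z, hz⟩ _).mp ((hq.symm.trans (by rw [hθb, key])))
    rw [hσH, ← key, hσθ, show θb ^ Fintype.card FP = FiniteField.frobeniusAlgHom FP FQ θb from rfl,
      aeval_algHom_apply, hq, FiniteField.coe_frobeniusAlgHom] at hmod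
    simp only [hcardP, ← map_pow] at hmod
    exact (residue_eq_iff Q _ _).mp hmod

end Groth.FunFld1
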