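import Groth.Agent.FunFld1.RiemannRoch
import Groth.Prelude.Def_W4bk4goldsch45

/-!
Function fields over a finite constant field: finiteness of places of bounded degree, divisor
classes, and the number of effective divisors of a given degree.
-/

set_option linter.unusedSectionVars false
set_option linter.style.haveILetI false

namespace Groth.FunFld1

open WithZero FunFld Polynomial

variable {k K : Type*} [Field k] [Field K] [Algebra k K]

namespace IsFF

theorem finite_places_deg_le [Finite k] (hF : IsFF k K) (n : ℕ) :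
    {P : Place k K | P.deg ≤ n}.Finite := by
  classical
  obtain ⟨x, hx, -⟩ := id hF
  have hpolys : {h : k[X] | h.Monic ∧ h.natDegree ≤ n}.Finite := by
    refine (Set.finite_range fun c : Fin (n + 1) → k => ∑ i : Fin (n + 1), monomial (i : ℕ) (c i)).subset ?_
    rintro h ⟨-, hdeg⟩
    refine ⟨fun i => h.coeff i, ?_⟩
    show ∑ i : Fin (n + 1), monomial (i : ℕ) (h.coeff (i : ℕ)) = h
    rw [Fin.sum_univ_eq_sum_range (fun i : ℕ => monomial i (h.coeff i)),
      ← Polynomial.as_sum_range' h (n + 1) (by omega)]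
  refine (Set.Finite.union (hpolys.biUnion fun h _ => hF.finite_zeros (aeval x h))
    (hF.finite_zeros x⁻¹)).subset fun P hP => ?_
  by_cases hPx : P.1 x ≤ 1
  · left
    haveI := hF.finiteDimensional_residueField P
    haveI : IsScalarTower k P.O K := IsScalarTower.of_algebraMap_eq fun _ => rfl
    haveI : IsScalarTower k P.O (IsLocalRing.ResidueField P.O) :=
      IsScalarTower.of_algebraMap_eq fun _ => rfl
    let a : P.O := ⟨x, hPx⟩
    let r := IsLocalRing.residue P.O a
    have hint : IsIntegral k r :=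
      @IsIntegral.of_finite k _ _ _ _ (hF.finiteDimensional_residueField P) r
    refine Set.mem_biUnion (x := minpoly k r)
      ⟨minpoly.monic hint, (@minpoly.natDegree_le _ _ _ _ _ (hF.finiteDimensional_residueField P) r).trans hP⟩ ?_
    show 0 < P.ord (aeval x (minpoly k r))
    refine (ord_pos_iff P _).mpr ⟨fun h0 => ?_, ?_⟩
    · exact minpoly.ne_zero hint ((transcendental_iff.mp hx) _ h0)
    · have h1 : IsLocalRing.residue P.O (aeval a (minpoly k r)) = 0 := by
        rw [← IsLocalRing.ResidueField.algebraMap_eq, ← aeval_algebraMap_apply]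
        exact minpoly.aeval k r
      have h2 := (residue_eq_zero_iff P _).mp h1
      rwa [← ValuationSubring.algebraMap_apply, ← aeval_algebraMap_apply] at h2
  · right
    show 0 < P.ord x⁻¹
    rw [ord_inv]
    have := (one_lt_val_iff P x).mp (not_le.mp hPx)
    omega

theorem mul_deg_le_deg {D : Divisor k K} (hD : 0 ≤ D) (P : Place k K) :
    D P * (P.deg : ℤ) ≤ D.deg := by
  classical
  have h : 0 ≤ D - Finsupp.single P (D P) := fun Q => by
    by_cases e : Q = P
    · subst e; simp
    · simpa [Finsupp.single_eq_of_ne e] using hD Q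
  have := deg_nonneg h
  rw [deg_sub, deg_single] at this
  linarith

theorem finite_effective [Finite k] (hF : IsFF k K) (n : ℤ) :
    {D : Divisor k K | 0 ≤ D ∧ D.deg ≤ n}.Finite := by
  classical
  set T := hF.finite_places_deg_le n.toNat with hT
  have hsupp : ∀ D : Divisor k K, 0 ≤ D → D.deg ≤ n → ∀ P, D P ≠ 0 →
      P ∈ {P : Place k K | P.deg ≤ n.toNat} ∧ D P ≤ n := by
    intro D hD hDn P hP
    have h1 := (mul_deg_le_deg hD P).trans hDn
    have h2 : (0 : ℤ) < D P := lt_of_le_of_ne (hD P) (Ne.symm hP)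
    have h3 : (0 : ℤ) < P.deg := by exact_mod_cast hF.deg_pos P
    have h4 : (P.deg : ℤ) ≤ n := le_trans (le_mul_of_one_le_left h3.le h2) h1
    have h5 : D P ≤ n := le_trans (le_mul_of_one_le_right h2.le h3) h1
    exact ⟨show P.deg ≤ n.toNat by omega, h5⟩
  haveI := T.to_subtype
  refine Set.Finite.of_finite_image (f := fun D : Divisor k K =>
    fun P : {P : Place k K | P.deg ≤ n.toNat} => D P.1) ?_ ?_
  · refine (Set.Finite.pi (t := fun _ => Set.Icc (0 : ℤ) (max n 0)) fun _ => Set.finite_Icc _ _).subset ?_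
    rintro _ ⟨D, ⟨hD, hDn⟩, rfl⟩ P -
    refine ⟨hD P.1, ?_⟩
    by_cases h : D P.1 = 0
    · exact h ▸ le_max_right _ _
    · exact (hsupp D hD hDn P.1 h).2.trans (le_max_left _ _)
  · intro D ⟨hD, hDn⟩ E ⟨hE, hEn⟩ h
    ext P
    by_cases hP : P ∈ {P : Place k K | P.deg ≤ n.toNat}
    · exact congrFun h ⟨P, hP⟩
    · have h1 : D P = 0 := by by_contra hc; exact hP (hsupp D hD hDn P hc).1
      have h2 : E P = 0 := by by_contra hc; exact hP (hsupp E hE hEn P hc).1
      rw [h1, h2]

theorem div_one (hF : IsFF k K) : div k (1 : K) = 0 := by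
  have h := hF.div_mul (one_ne_zero (α := K)) one_ne_zero
  rw [mul_one] at h
  simpa using h

theorem mem_prinDivs_iff (hF : IsFF k K) {D : Divisor k K} :
    D ∈ prinDivs k K ↔ ∃ x : K, x ≠ 0 ∧ D = div k x := by
  constructor
  · intro h
    induction h using AddSubgroup.closure_induction with
    | mem E hE =>
      obtain ⟨x, rfl⟩ := hE
      by_cases hx : x = 0
      · subst hx
        refine ⟨1, one_ne_zero, ?_⟩
        ext P
        simp [hF.div_apply, Place.ord]
      · exact ⟨x, hx, rfl⟩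
    | zero => exact ⟨1, one_ne_zero, hF.div_one.symm⟩
    | add a b _ _ ha hb =>
      obtain ⟨x, hx, rfl⟩ := ha
      obtain ⟨y, hy, rfl⟩ := hb
      exact ⟨x * y, mul_ne_zero hx hy, (hF.div_mul hx hy).symm⟩
    | neg a _ ha =>
      obtain ⟨x, hx, rfl⟩ := ha
      exact ⟨x⁻¹, inv_ne_zero hx, (hF.div_inv x).symm⟩
  · rintro ⟨x, -, rfl⟩
    exact AddSubgroup.subset_closure ⟨x, rfl⟩

end IsFF

theorem degHom_eq_deg (D : Divisor k K) : degHom k K D = D.deg := by
  simp [degHom, Divisor.deg]

variable (k K)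

/-- Divisor classes. -/
abbrev Cl := Divisor k K ⧸ prinDivs k K

variable {k K}

/-- The class of a divisor. -/
noncomputable def cls (D : Divisor k K) : Cl k K := QuotientAddGroup.mk D

variable (k K)

/-- The classes of degree `n`. -/
def ClN (n : ℤ) : Set (Cl k K) := cls '' {D : Divisor k K | D.deg = n}

variable {k K}

/-- `ℓ` of a class. -/
noncomputable def ellCl (c : Cl k K) : ℕ := ell (Quotient.out c : Divisor k K)

variable (k K)

/-- `∑ q^ℓ(c)` over the classes of degree `n`. -/
noncomputable def cs (n : ℤ) : ℤ := ∑ᶠ c ∈ ClN k K n, (Nat.card k : ℤ) ^ ellCl c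

/-- The number of effective divisors of degree `n`, for an integer `n`. -/
noncomputable def aZ (n : ℤ) : ℕ := {D : Divisor k K | 0 ≤ D ∧ D.deg = n}.ncard

variable {k K}

theorem effDivCount_eq_aZ (n : ℕ) : effDivCount k K n = aZ k K n := Nat.card_coe_set_eq _

theorem aZ_of_neg {n : ℤ} (h : n < 0) : aZ k K n = 0 := by
  have : {D : Divisor k K | 0 ≤ D ∧ D.deg = n} = ∅ := by
    ext D
    simp only [Set.mem_ofPred_eq, Set.mem_empty_iff_false, iff_false, not_and]
    intro h1 h2
    have := deg_nonneg h1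
    omega
  rw [aZ, this, Set.ncard_empty]

theorem cls_add (D E : Divisor k K) : cls (D + E) = cls D + cls E := rfl

theorem cls_add_mem {n : ℤ} {c : Cl k K} (hc : c ∈ ClN k K n) (D : Divisor k K) :
    c + cls D ∈ ClN k K (n + D.deg) := by
  obtain ⟨E, hE, rfl⟩ := hc
  exact ⟨E + D, by show (E + D).deg = _; rw [deg_add, show E.deg = n from hE], rfl⟩

theorem image_add_ClN (n : ℤ) (D : Divisor k K) :
    (fun c => c + cls D) '' ClN k K n = ClN k K (n + D.deg) := by
  refine Set.Subset.antisymm (Set.image_subset_iff.mpr fun c hc => cls_add_mem hc D) fun c hc => ?_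
  refine ⟨c + cls (-D), ?_, ?_⟩
  · have h := cls_add_mem hc (-D)
    rwa [deg_neg, add_neg_cancel_right] at h
  · show c + cls (-D) + cls D = c
    rw [add_assoc, ← cls_add, neg_add_cancel]
    exact add_zero c

namespace IsFF

variable (hF : IsFF k K)
include hF

theorem exists_div_of_cls_eq {D E : Divisor k K} (h : cls D = cls E) :
    ∃ x : K, x ≠ 0 ∧ E = D + div k x := by
  obtain ⟨x, hx, hD⟩ := hF.mem_prinDivs_iff.mp (QuotientAddGroup.eq.mp h)
  exact ⟨x, hx, by rw [← hD, add_neg_cancel_left]⟩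

theorem cls_add_div (D : Divisor k K) {x : K} (hx : x ≠ 0) : cls (D + div k x) = cls D :=
  (QuotientAddGroup.eq.mpr (hF.mem_prinDivs_iff.mpr ⟨x, hx, by rw [neg_add_cancel_left]⟩)).symm

theorem deg_eq_of_cls_eq {D E : Divisor k K} (h : cls D = cls E) : D.deg = E.deg := by
  obtain ⟨x, -, rfl⟩ := hF.exists_div_of_cls_eq h
  rw [deg_add, hF.deg_div, add_zero]

theorem ell_eq_of_cls_eq {D E : Divisor k K} (h : cls D = cls E) : ell D = ell E := by
  obtain ⟨x, hx, rfl⟩ := hF.exists_div_of_cls_eq h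
  rw [hF.ell_add_div D hx]

theorem ellCl_cls (D : Divisor k K) : ellCl (cls D) = ell D :=
  hF.ell_eq_of_cls_eq (Quotient.out_eq _)

theorem deg_of_mem_ClN {n : ℤ} {D : Divisor k K} (h : cls D ∈ ClN k K n) : D.deg = n := by
  obtain ⟨E, hE, he⟩ := h
  rw [← hF.deg_eq_of_cls_eq he]
  exact hE

end IsFF

section Finite

variable [Finite k] (hK : IsFunctionField k K)
include hK

local notation "hF" => IsFF.of_isFunctionField hK

theorem finite_ClN (n : ℤ) : (ClN k K n).Finite := by
  have key : ∀ m : ℤ, (genus k K : ℤ) ≤ m → (ClN k K m).Finite := by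
    intro m hm
    refine (((hF).finite_effective m).image cls).subset ?_
    rintro _ ⟨D, hD, rfl⟩
    have hD' : D.deg = m := hD
    have hd := (hF).delta_le_genus D
    unfold delta at hd
    have hne : L D ≠ ⊥ := fun h => by
      have : ell D = 0 := by unfold ell; rw [h]; exact finrank_bot k K
      omega
    obtain ⟨x, hx, hxD⟩ := (hF).exists_effective_of_ne_bot hne
    exact ⟨D + div k x, ⟨hxD, by rw [deg_add, (hF).deg_div, hD']; omega⟩, (hF).cls_add_div D hx⟩
  obtain ⟨P⟩ := (hF).nonempty_place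
  have hP : (1 : ℤ) ≤ P.deg := by exact_mod_cast (hF).deg_pos P
  set m : ℕ := ((genus k K : ℤ) - n).toNat
  have hm : (genus k K : ℤ) ≤ n + Divisor.deg (Finsupp.single P (m : ℤ) : Divisor k K) := by
    rw [deg_single]
    have : (m : ℤ) ≤ (m : ℤ) * P.deg := le_mul_of_one_le_right (by positivity) hP
    omega
  refine Set.Finite.of_finite_image (f := fun c => c + cls (Finsupp.single P (m : ℤ))) ?_
    (fun a _ b _ h => add_right_cancel h)
  rw [image_add_ClN]
  exact key _ hm

theorem classNum_eq : classNum k K = (ClN k K 0).ncard := by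
  let φ : (degHom k K).ker →+ Cl k K :=
    (QuotientAddGroup.mk' (prinDivs k K)).comp (degHom k K).ker.subtype
  have hker : (prinDivs k K).addSubgroupOf (degHom k K).ker = φ.ker := by
    ext D
    exact (QuotientAddGroup.eq_zero_iff (N := prinDivs k K) D.1).symm
  have hrange : (φ.range : Set (Cl k K)) = ClN k K 0 := by
    ext c
    constructor
    · rintro ⟨⟨D, hD⟩, rfl⟩
      exact ⟨D, (degHom_eq_deg D).symm.trans hD, rfl⟩
    · rintro ⟨D, hD, rfl⟩
      exact ⟨⟨D, (degHom_eq_deg D).trans hD⟩, rfl⟩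
  rw [classNum, hker, ← hrange, ← Nat.card_coe_set_eq]
  exact Nat.card_congr (QuotientAddGroup.quotientKerEquivRange φ).toEquiv

theorem classNum_pos : 0 < classNum k K := by
  rw [classNum_eq hK]
  exact (Set.ncard_pos (finite_ClN hK 0)).mpr ⟨cls 0, 0, deg_zero, rfl⟩

theorem ncard_ClN {n : ℤ} (h : ∃ D : Divisor k K, D.deg = n) :
    (ClN k K n).ncard = classNum k K := by
  obtain ⟨D, rfl⟩ := h
  rw [classNum_eq hK, show D.deg = 0 + D.deg by rw [zero_add], ← image_add_ClN]
  exact Set.ncard_image_of_injective _ fun a b h => add_right_cancel h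

theorem two_le_card : 2 ≤ Nat.card k := Finite.one_lt_card

theorem effective_fibre (D : Divisor k K) :
    (Nat.card k - 1) * {E : Divisor k K | 0 ≤ E ∧ cls E = cls D}.ncard =
      Nat.card k ^ ell D - 1 := by
  classical
  haveI := (hF).finiteDimensional_L D
  set T := {E : Divisor k K | 0 ≤ E ∧ cls E = cls D}
  have hrep : ∀ E : T, ∃ f : L D, f.1 ≠ 0 ∧ E.1 = D + div k f.1 := by
    intro E
    obtain ⟨x, hx, he⟩ := (hF).exists_div_of_cls_eq E.2.2.symm
    exact ⟨⟨x, ((hF).mem_L_iff hx).mpr (he ▸ E.2.1)⟩, hx, he⟩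
  choose f hf0 hfE using hrep
  have hne : ∀ (u : kˣ) (g : L D), g.1 ≠ 0 → (u : k) • g ≠ 0 := fun u g hg h =>
    hg (by simpa using congrArg Subtype.val (smul_eq_zero_iff_right u.ne_zero |>.mp h))
  let F : kˣ × T → {v : L D // v ≠ 0} := fun p => ⟨(p.1 : k) • f p.2, hne _ _ (hf0 p.2)⟩
  have hsame : ∀ (u : kˣ) (g : K), g ≠ 0 → div k ((u : k) • g) = div k g := fun u g hg => by
    rw [Algebra.smul_def, (hF).div_mul (by simpa using u.ne_zero) hg]
    ext P
    simp [(hF).div_apply, ord_algebraMap]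
  have hinj : Function.Injective F := by
    rintro ⟨u, E⟩ ⟨u', E'⟩ h
    have h1 : ((u : k) • f E : L D).1 = ((u' : k) • f E' : L D).1 :=
      congrArg (fun v : {v : L D // v ≠ 0} => v.1.1) h
    simp only [Submodule.coe_smul] at h1
    have hE : E = E' := by
      apply Subtype.ext
      rw [hfE E, hfE E', ← hsame u _ (hf0 E), ← hsame u' _ (hf0 E'), h1]
    subst hE
    have hu : (u : k) = u' := smul_left_injective k (hf0 E) h1
    rw [Units.ext hu]
  have hsurj : Function.Surjective F := by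
    rintro ⟨v, hv⟩
    have hv0 : v.1 ≠ 0 := fun h => hv (Subtype.ext h)
    set E : T := ⟨D + div k v.1, ((hF).mem_L_iff hv0).mp v.2, (hF).cls_add_div D hv0⟩
    have hord : ∀ P : Place k K, P.ord v.1 = P.ord (f E).1 := fun P => by
      have h := congrArg (fun G : Divisor k K => G P) (add_left_cancel (hfE E))
      simpa [(hF).div_apply] using h
    obtain ⟨c, hc⟩ := exists_eq_smul_of_div_eq hK hv0 (hf0 E) hord
    have hc0 : c ≠ 0 := fun h => hv0 (by rw [hc, h, zero_smul])
    exact ⟨(Units.mk0 c hc0, E), Subtype.ext (Subtype.ext (by simpa [F] using hc.symm))⟩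
  have h := Nat.card_congr (Equiv.ofBijective F ⟨hinj, hsurj⟩)
  rw [Nat.card_prod, Nat.card_units, Nat.card_coe_set_eq] at h
  rw [h]
  haveI : Finite (L D) := Module.finite_of_finite k
  show Nat.card ({0}ᶜ : Set (L D)) = _
  rw [Nat.card_coe_set_eq, Set.ncard_compl, Set.ncard_singleton,
    Module.natCard_eq_pow_finrank (K := k)]
  rfl

theorem card_sub_one_mul_aZ (n : ℤ) :
    ((Nat.card k : ℤ) - 1) * (aZ k K n : ℤ) = cs k K n - (ClN k K n).ncard := by
  classical
  have hfinE : {D : Divisor k K | 0 ≤ D ∧ D.deg = n}.Finite :=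
    ((hF).finite_effective n).subset fun D hD => ⟨hD.1, hD.2.le⟩
  set C := (finite_ClN hK n).toFinset
  rw [cs, finsum_mem_eq_finite_toFinset_sum _ (finite_ClN hK n), aZ,
    Set.ncard_eq_toFinset_card _ hfinE, Set.ncard_eq_toFinset_card _ (finite_ClN hK n),
    Finset.card_eq_sum_card_fiberwise (f := cls) (t := C) (fun D hD => by
      simp only [C, Set.Finite.coe_toFinset]
      exact ⟨D, (hfinE.mem_toFinset.mp hD).2, rfl⟩),
    Nat.cast_sum, Finset.mul_sum, Finset.card_eq_sum_ones, Nat.cast_sum,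
    ← Finset.sum_sub_distrib]
  refine Finset.sum_congr rfl fun c hc => ?_
  obtain ⟨D, hD, rfl⟩ := (finite_ClN hK n).mem_toFinset.mp hc
  have h := effective_fibre hK D
  have e : {E : Divisor k K | 0 ≤ E ∧ cls E = cls D}.ncard =
      (hfinE.toFinset.filter fun E => cls E = cls D).card := by
    rw [← Set.ncard_coe_finset]
    congr 1
    ext E
    simp only [Finset.coe_filter, Set.Finite.mem_toFinset, Set.mem_ofPred_eq]
    exact ⟨fun h => ⟨⟨h.1, ((hF).deg_eq_of_cls_eq h.2).trans hD⟩, h.2⟩,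
      fun h => ⟨h.1.1, h.2⟩⟩
  rw [e] at h
  have hq := two_le_card hK
  have hpow : 1 ≤ Nat.card k ^ ell D := Nat.one_le_pow _ _ (by omega)
  have h' := congrArg (Nat.cast : ℕ → ℤ) h
  push_cast [Nat.cast_sub hpow, Nat.cast_sub (show 1 ≤ Nat.card k by omega)] at h'
  rw [(hF).ellCl_cls, h', Nat.cast_one]

theorem cs_of_deg_ge {n : ℤ} (h : 2 * (genus k K : ℤ) - 1 ≤ n) :
    cs k K n = (ClN k K n).ncard * (Nat.card k : ℤ) ^ (n + 1 - genus k K).toNat := by
  classical
  rw [cs, finsum_mem_eq_finite_toFinset_sum _ (finite_ClN hK n),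
    Set.ncard_eq_toFinset_card _ (finite_ClN hK n)]
  rw [Finset.sum_congr rfl fun c hc => ?_, Finset.sum_const, nsmul_eq_mul]
  obtain ⟨D, hD, rfl⟩ := (finite_ClN hK n).mem_toFinset.mp hc
  have hD' : D.deg = n := hD
  rw [(hF).ellCl_cls]
  congr 1
  have := ell_eq_of_deg_ge hK (D := D) (by omega)
  omega

end Finite

end Groth.FunFld1
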