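import Groth.Agent.FunFld1.Gaps
import Groth.Agent.FunFld1.Extension
import Groth.Agent.FunFld1.Zeta.Classes
import Mathlib.FieldTheory.Finite.Basic
import Mathlib.Algebra.CharP.Lemmas

/-!
Bombieri's bound for the places at which an automorphism induces the Frobenius map.
-/

set_option linter.style.haveILetI false
set_option linter.unusedSectionVars false

namespace Groth.FunFld1

open WithZero FunFld

variable {k L : Type*} [Field k] [Field L] [Algebra k L]

/-- `σ` induces the Frobenius map of `k` on the residue field at `P`. -/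
def FrobAt (σ : L ≃ₐ[k] L) (P : Place k L) : Prop :=
  ∀ f : L, P.1 f ≤ 1 → P.1 (σ f) ≤ 1 ∧ P.1 (σ f - f ^ Nat.card k) < 1

theorem exists_prime_pow_sqrt [Finite k] {s : ℕ} (hs : Nat.card k = s ^ 2) :
    ∃ (p : ℕ) (a : ℕ), p.Prime ∧ CharP k p ∧ s = p ^ a := by
  haveI := Fintype.ofFinite k
  obtain ⟨p, hp⟩ := CharP.exists k
  obtain ⟨c, hpr, hc⟩ := FiniteField.card k p
  rw [← Nat.card_eq_fintype_card, hs] at hc
  obtain ⟨a, -, ha⟩ := (Nat.dvd_prime_pow hpr).mp (hc ▸ dvd_pow_self s two_ne_zero)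
  exact ⟨p, a, hpr, hp, ha⟩

set_option maxHeartbeats 1000000 in
theorem bombieri [Finite k] (hL : IsFunctionField k L) {s : ℕ} (hs : Nat.card k = s ^ 2)
    (hbig : (genus k L + 1) ^ 2 < s) {Q : Place k L} (hQ : Q.deg = 1) (σ : L ≃ₐ[k] L)
    (T : Finset (Place k L)) (hT : ∀ P ∈ T, FrobAt σ P) :
    ∑ P ∈ T, (P.deg : ℤ) ≤ (Nat.card k : ℤ) + (2 * genus k L + 1) * s := by
  classical
  have hF := IsFF.of_isFunctionField hL
  obtain ⟨p, a, hp, hchar, hsa⟩ := exists_prime_pow_sqrt hs
  haveI := Fact.mk hp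
  haveI : CharP L p := charP_of_injective_algebraMap (algebraMap k L).injective p
  set q := Nat.card k with hq
  set g := genus k L
  set n := s + 2 * g with hn
  obtain ⟨l, hl⟩ : ∃ l, s = l + 1 := ⟨s - 1, by
    have : 0 < (g + 1) ^ 2 := by positivity
    omega⟩
  -- exact pole orders
  set S := (Finset.range (n + 1)).filter fun m => m ∉ gapSet Q n with hS
  have hScard : S.card = n + 1 - g := by
    have h1 := ncard_gapSet_eq_genus hL hQ (n := n) (by omega)
    have h2 : (Finset.range (n + 1)).filter (fun m => m ∈ gapSet Q n) = (finite_gapSet Q n).toFinset := by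
      ext m
      simp only [Finset.mem_filter, Finset.mem_range, Set.Finite.mem_toFinset]
      exact ⟨fun h => h.2, fun h => ⟨by have := h.2.1; omega, h⟩⟩
    have h3 := Finset.card_filter_add_card_filter_not (s := Finset.range (n + 1))
      (fun m => m ∈ gapSet Q n)
    rw [h2, ← Set.ncard_eq_toFinset_card _ _, h1, Finset.card_range] at h3
    rw [hS]
    omega
  have hu : ∀ m ∈ S, ∃ x ∈ FunFld.L (Finsupp.single Q (m : ℤ) : Divisor k L), Q.1 x = exp (m : ℤ) := by
    intro m hm
    simp only [hS, Finset.mem_filter, Finset.mem_range] at hm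
    refine exists_of_not_gap fun heq => ?_
    rcases Nat.eq_zero_or_pos m with rfl | hpos
    · have h1 : (1 : L) ∈ FunFld.L (Finsupp.single Q ((0 : ℕ) : ℤ) : Divisor k L) := fun R => by simp
      rw [heq] at h1
      have h2 := h1 Q
      simp at h2
      exact absurd h2 (by rw [← exp_neg, one_le_exp]; omega)
    · exact hm.2 ⟨hpos, by omega, heq⟩
  choose u huL huv using hu
  -- the map
  let W : Submodule k L := FunFld.L (Finsupp.single Q (l : ℤ) : Divisor k L)
  let Q' : Place k L := comapPlace (K := k) σ.symm Q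
  have hQ' : Q'.deg = 1 := by rw [deg_comapPlace, hQ]
  set D : Divisor k L := Finsupp.single Q ((s * l : ℕ) : ℤ) + Finsupp.single Q' (n : ℤ) with hD
  haveI := hF.finiteDimensional_L (Finsupp.single Q (l : ℤ))
  haveI := hF.finiteDimensional_L D
  haveI : Finite W := Module.finite_of_finite k
  haveI : Finite (FunFld.L D) := Module.finite_of_finite k
  let Φ : (S → W) → L := fun ν => ∑ m : S, (ν m : L) ^ s * σ (u m.1 m.2)
  have hΦmem : ∀ ν, Φ ν ∈ FunFld.L D := by
    intro ν
    refine sum_mem fun m _ R => ?_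
    rw [map_mul, map_pow, hD, Finsupp.add_apply, exp_add]
    refine mul_le_mul' ?_ ?_
    · refine (pow_le_pow_left₀ zero_le ((ν m).2 R) s).trans_eq ?_
      rw [← exp_nsmul, Finsupp.single_apply, Finsupp.single_apply]
      split_ifs <;> simp
    · show (comapPlace (K := k) σ R).1 (u m.1 m.2) ≤ _
      refine ((huL m.1 m.2) (comapPlace (K := k) σ R)).trans ?_
      have hiff : Q = comapPlace (K := k) σ R ↔ Q' = R := by
        constructor
        · rintro rfl
          exact Subtype.ext (Valuation.ext fun x => by simp [Q'])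
        · rintro rfl
          exact Subtype.ext (Valuation.ext fun x => by simp [Q'])
      rw [Finsupp.single_apply, Finsupp.single_apply, exp_le_exp]
      have hm : m.1 ≤ n := by
        have := (Finset.mem_filter.mp m.2).1
        rw [Finset.mem_range] at this
        omega
      by_cases h : Q' = R
      · rw [if_pos h, if_pos (hiff.mpr h)]; exact_mod_cast hm
      · rw [if_neg h, if_neg (hiff.not.mpr h)]
  have hnotinj : ¬ Function.Injective (fun ν => (⟨Φ ν, hΦmem ν⟩ : FunFld.L D)) := by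
    intro hinj
    have h := Nat.card_le_card_of_injective _ hinj
    rw [Nat.card_fun, Module.natCard_eq_pow_finrank (K := k) (V := W),
      Module.natCard_eq_pow_finrank (K := k) (V := FunFld.L D), ← pow_mul, Nat.card_eq_fintype_card (α := S),
      Fintype.card_coe, hScard] at h
    have h' := (Nat.pow_le_pow_iff_right (two_le_card hL)).mp h
    have h1 := ell_eq_of_deg_ge hL (D := D) (by
      rw [hD, deg_add, deg_single, deg_single, hQ, hQ', hn, hl]; push_cast; nlinarith)
    rw [hD, deg_add, deg_single, deg_single, hQ, hQ', ← hD] at h1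
    have h2 := hF.delta_le_genus (Finsupp.single Q (l : ℤ))
    rw [delta, deg_single, hQ] at h2
    change Module.finrank k W * (n + 1 - g) ≤ ell D at h'
    change ((l : ℤ) * ((1 : ℕ) : ℤ) + 1 - (Module.finrank k W : ℤ)) ≤ g at h2
    have hbz : ((g : ℤ) + 1) ^ 2 < s := by exact_mod_cast hbig
    rw [hn, show s + 2 * g + 1 - g = s + g + 1 by omega] at h'
    have h'' : (Module.finrank k W : ℤ) * (s + g + 1) ≤ ell D := by exact_mod_cast h'
    rw [hn, hl] at h1
    rw [hl] at h'' hbz
    push_cast at h1 h2 h'' hbz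
    nlinarith [mul_le_mul_of_nonneg_right (show (l : ℤ) + 1 - g ≤ Module.finrank k W by linarith)
      (show (0 : ℤ) ≤ l + 1 + g + 1 by positivity)]
  have hsne : s ≠ 0 := by omega
  obtain ⟨ν, hν0, hν⟩ : ∃ ν : S → W, ν ≠ 0 ∧ Φ ν = 0 := by
    simp only [Function.Injective, not_forall] at hnotinj
    obtain ⟨ν₁, ν₂, h, hne⟩ := hnotinj
    refine ⟨ν₁ - ν₂, sub_ne_zero.mpr hne, ?_⟩
    have h' : Φ ν₁ = Φ ν₂ := congrArg Subtype.val h
    rw [← sub_eq_zero.mpr h']
    simp only [Φ, ← Finset.sum_sub_distrib]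
    refine Finset.sum_congr rfl fun m _ => ?_
    rw [Pi.sub_apply, Submodule.coe_sub, hsa, sub_pow_char_pow, sub_mul]
  set H : L := ∑ m : S, (ν m : L) * u m.1 m.2 ^ s with hH
  -- `H` is nonzero
  have hH0 : H ≠ 0 := by
    intro h0
    obtain ⟨m₀, hm₀, hmax⟩ := Finset.exists_max_image
      (Finset.univ.filter fun m : S => ν m ≠ 0) (fun m => m.1) (by
        obtain ⟨m, hm⟩ := Function.ne_iff.mp hν0
        exact ⟨m, by simpa using hm⟩)
    rw [Finset.mem_filter] at hm₀
    have hsplit : (ν m₀ : L) * u m₀.1 m₀.2 ^ s =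
        -∑ m ∈ Finset.univ.erase m₀, (ν m : L) * u m.1 m.2 ^ s := by
      rw [eq_neg_iff_add_eq_zero]
      exact (Finset.add_sum_erase Finset.univ (fun m : S => (ν m : L) * u m.1 m.2 ^ s)
        (Finset.mem_univ m₀)).trans h0
    have hb : Q.1 ((ν m₀ : L) * u m₀.1 m₀.2 ^ s) ≤ exp ((s : ℤ) * m₀.1 - 1) := by
      rw [hsplit, Valuation.map_neg]
      refine Valuation.map_sum_le _ fun m hm => ?_
      by_cases hνm : ν m = 0
      · simp [hνm]
      have hlt : m.1 < m₀.1 := lt_of_le_of_ne (hmax m (by simp [hνm]))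
        fun h => (Finset.mem_erase.mp hm).1 (Subtype.ext h)
      rw [map_mul, map_pow, huv, ← exp_nsmul]
      refine (mul_le_mul' ((ν m).2 Q) le_rfl).trans ?_
      rw [Finsupp.single_eq_same, ← exp_add, exp_le_exp, nsmul_eq_mul]
      have : (s : ℤ) * (m.1 + 1) ≤ (s : ℤ) * m₀.1 :=
        mul_le_mul_of_nonneg_left (by exact_mod_cast hlt) (by positivity)
      have hl' : (s : ℤ) = l + 1 := by exact_mod_cast hl
      linarith
    rw [map_mul, map_pow, huv, ← exp_nsmul, nsmul_eq_mul, exp_sub, div_eq_mul_inv, ← exp_neg,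
      mul_comm (exp ((s : ℤ) * m₀.1))] at hb
    have hlt1 : Q.1 (ν m₀ : L) < 1 :=
      lt_one_iff_le_exp_neg_one.mpr (le_of_mul_le_mul_right hb exp_pos)
    have hL0 : (ν m₀ : L) ∈ FunFld.L (0 : Divisor k L) := fun R => by
      rw [Finsupp.coe_zero, Pi.zero_apply, exp_zero]
      by_cases hR : R = Q
      · exact hR ▸ hlt1.le
      · simpa [Finsupp.single_eq_of_ne hR] using (ν m₀).2 R
    rw [L_zero_eq hL, Submodule.mem_one] at hL0
    obtain ⟨c, hc⟩ := hL0
    by_cases hc0 : c = 0
    · exact hm₀.2 (Subtype.ext (by rw [← hc, hc0, map_zero]; rfl))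
    · rw [← hc, val_algebraMap Q hc0] at hlt1
      exact lt_irrefl _ hlt1
  -- `H` vanishes on `T`
  set T' := T.erase Q
  set N := l + n * s
  have hHmem : H ∈ FunFld.L (Finsupp.single Q (N : ℤ) - ∑ P ∈ T', Finsupp.single P (1 : ℤ) : Divisor k L) := by
    intro R
    rw [Finsupp.sub_apply, Finsupp.coe_finsetSum, Finset.sum_apply]
    simp only [Finsupp.single_apply, Finset.sum_ite_eq']
    have hterm : ∀ m : S, R.1 ((ν m : L) * u m.1 m.2 ^ s) ≤ exp (if Q = R then (N : ℤ) else 0) := by
      intro m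
      rw [map_mul, map_pow]
      have hm : m.1 ≤ n := by
        have := (Finset.mem_filter.mp m.2).1
        rw [Finset.mem_range] at this
        omega
      refine (mul_le_mul' ((ν m).2 R) (pow_le_pow_left₀ zero_le (huL m.1 m.2 R) s)).trans ?_
      rw [← exp_nsmul, ← exp_add, exp_le_exp, Finsupp.single_apply, Finsupp.single_apply, nsmul_eq_mul]
      split_ifs
      · have : (s : ℤ) * m.1 ≤ (s : ℤ) * n := mul_le_mul_of_nonneg_left (by exact_mod_cast hm) (by positivity)
        push_cast [N]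
        linarith
      · simp
    by_cases hRT : R ∈ T'
    · rw [if_pos hRT]
      obtain ⟨hRQ, hRT'⟩ := Finset.mem_erase.mp hRT
      rw [if_neg (Ne.symm hRQ), zero_sub]
      refine lt_one_iff_le_exp_neg_one.mp ?_
      have hint : ∀ m : S, R.1 (ν m : L) ≤ 1 ∧ R.1 (u m.1 m.2) ≤ 1 := fun m =>
        ⟨by simpa [Finsupp.single_eq_of_ne hRQ] using (ν m).2 R,
          by simpa [Finsupp.single_eq_of_ne hRQ] using huL m.1 m.2 R⟩
      have hpow : R.1 (H ^ s) < 1 := by
        have e : H ^ s = ∑ m : S, (ν m : L) ^ s * (u m.1 m.2 ^ q - σ (u m.1 m.2)) := by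
          simp only [mul_sub, Finset.sum_sub_distrib]
          rw [show ∑ m : S, (ν m : L) ^ s * σ (u m.1 m.2) = 0 from hν, sub_zero, hH, hsa, sum_pow_char_pow]
          refine Finset.sum_congr rfl fun m _ => ?_
          rw [mul_pow, ← pow_mul, hs, hsa, sq]
        rw [e]
        refine Valuation.map_sum_lt _ one_ne_zero fun m _ => ?_
        rw [map_mul, map_pow]
        refine (mul_le_of_le_one_left' (pow_le_one₀ zero_le (hint m).1)).trans_lt ?_
        rw [Valuation.map_sub_swap]
        exact (hT R hRT' _ (hint m).2).2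
      rw [map_pow] at hpow
      exact (pow_lt_one_iff_of_nonneg zero_le hsne).mp hpow
    · rw [if_neg hRT, sub_zero]
      exact Valuation.map_sum_le _ fun m _ => hterm m
  have hdeg : 0 ≤ Divisor.deg (Finsupp.single Q (N : ℤ) - ∑ P ∈ T', Finsupp.single P (1 : ℤ) : Divisor k L) := by
    by_contra hneg
    have := hF.L_eq_bot_of_deg_neg (not_le.mp hneg)
    rw [this, Submodule.mem_bot] at hHmem
    exact hH0 hHmem
  have hsum : ∀ U : Finset (Place k L),
      Divisor.deg (∑ P ∈ U, Finsupp.single P (1 : ℤ) : Divisor k L) = ∑ P ∈ U, (P.deg : ℤ) := fun U => by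
    rw [← degHom_eq_deg, map_sum]
    simp [degHom_eq_deg, deg_single]
  rw [deg_sub, deg_single, hQ, hsum] at hdeg
  have hle : ∑ P ∈ T, (P.deg : ℤ) ≤ ∑ P ∈ T', (P.deg : ℤ) + 1 := by
    by_cases hQT : Q ∈ T
    · rw [← Finset.add_sum_erase _ _ hQT, hQ]; push_cast; linarith
    · rw [show T' = T from Finset.erase_eq_of_notMem hQT]; linarith
  refine hle.trans ?_
  rw [hs, hl]
  push_cast [N, hn, hl] at hdeg ⊢
  nlinarith

end Groth.FunFld1
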