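import Groth.Agent.FunFld1.Zeta.Fibre
import Groth.Agent.FunFld1.Zeta.Classes
import Mathlib.FieldTheory.PrimitiveElement
import Mathlib.FieldTheory.Galois.Basic
import Mathlib.RingTheory.Polynomial.IntegralNormalization

/-!
Constant field extensions of a function field over a finite field, and the point counts
`N_m = ∑_{deg P ∣ m} deg P`.
-/

set_option linter.style.haveILetI false
set_option linter.unusedSectionVars false

namespace Groth.FunFld1

open WithZero FunFld Polynomial

/-- `∑ deg P` over the places of degree dividing `m`. -/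
noncomputable def Npt (k K : Type*) [Field k] [Field K] [Algebra k K] (m : ℕ) : ℕ :=
  ∑ᶠ P ∈ {P : Place k K | P.deg ∣ m}, P.deg

variable {k K k' K' : Type*} [Field k] [Field K] [Field k'] [Field K'] [Algebra k K] [Algebra k k']
  [Algebra K K'] [Algebra k' K'] [Algebra k K'] [IsScalarTower k K K'] [IsScalarTower k k' K']

section Base

variable [Finite k]

theorem finite_places_dvd (hF : IsFF k K) {m : ℕ} (hm : m ≠ 0) :
    {P : Place k K | P.deg ∣ m}.Finite :=
  (hF.finite_places_deg_le m).subset fun _ hP => Nat.le_of_dvd (Nat.pos_of_ne_zero hm) hP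

theorem Npt_one (hF : IsFF k K) : Npt k K 1 = Nat.card {P : Place k K // P.deg = 1} := by
  rw [Npt, finsum_mem_eq_finite_toFinset_sum _ (finite_places_dvd hF one_ne_zero)]
  have e : {P : Place k K | P.deg ∣ 1} = {P : Place k K | P.deg = 1} := by
    ext P; exact Nat.dvd_one
  rw [Finset.sum_congr rfl (g := fun _ => 1) fun P hP => by
      exact Nat.dvd_one.mp ((finite_places_dvd hF one_ne_zero).mem_toFinset.mp hP),
    ← Finset.card_eq_sum_ones, ← Set.ncard_eq_toFinset_card _ _, e, ← Nat.card_coe_set_eq]
  rfl

end Base

variable [Finite k] [Finite k']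

theorem exists_gen : ∃ θ : k', Algebra.adjoin k ({θ} : Set k') = ⊤ := by
  haveI : Module.Finite k k' := Module.Finite.of_finite
  obtain ⟨θ, hθ⟩ := Field.exists_primitive_element k k'
  refine ⟨θ, ?_⟩
  rw [← IntermediateField.adjoin_simple_toSubalgebra_of_isAlgebraic
    (Algebra.IsAlgebraic.isAlgebraic θ), hθ, IntermediateField.top_toSubalgebra]

variable (hgen : Algebra.adjoin K (Set.range (algebraMap k' K')) = ⊤)

include hgen in
theorem adjoin_gen_eq_top {θ : k'} (hθ : Algebra.adjoin k ({θ} : Set k') = ⊤) :
    Algebra.adjoin K ({algebraMap k' K' θ} : Set K') = ⊤ := by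
  refine eq_top_iff.mpr (hgen.symm.le.trans (Algebra.adjoin_le ?_))
  rintro _ ⟨c, rfl⟩
  have hc : c ∈ Algebra.adjoin k ({θ} : Set k') := hθ ▸ Algebra.mem_top
  rw [Algebra.adjoin_singleton_eq_range_aeval] at hc
  obtain ⟨p, rfl⟩ := hc
  rw [SetLike.mem_coe, Algebra.adjoin_singleton_eq_range_aeval]
  exact ⟨p.map (algebraMap k K), by
    show aeval (algebraMap k' K' θ) (p.map (algebraMap k K)) = algebraMap k' K' (aeval θ p)
    rw [aeval_map_algebraMap, aeval_algebraMap_apply]⟩

variable (hK : IsFunctionField k K)
include hgen hK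

/-- The minimal polynomial of a constant does not change. -/
theorem minpoly_gen {θ : k'} :
    minpoly K (algebraMap k' K' θ) = (minpoly k θ).map (algebraMap k K) := by
  haveI : Module.Finite k k' := Module.Finite.of_finite
  set θ' := algebraMap k' K' θ
  have hθi : IsIntegral k θ := IsIntegral.of_finite k θ
  have hθ'i : IsIntegral K θ' := (hθi.map (IsScalarTower.toAlgHom k k' K')).tower_top
  have hdvd : minpoly K θ' ∣ (minpoly k θ).map (algebraMap k K) := by
    refine minpoly.dvd K θ' ?_
    rw [aeval_map_algebraMap, aeval_algebraMap_apply, minpoly.aeval, map_zero]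
  obtain ⟨g, hg⟩ : ∃ g : k[X], g.map (algebraMap k K) = minpoly K θ' := by
    refine (mem_lifts _).mp ((lifts_iff_coeff_lifts _).mpr fun n => ?_)
    have h := integralClosure.mem_lifts_of_monic_of_dvd_map K (minpoly.monic hθi)
      (minpoly.monic hθ'i) hdvd
    obtain ⟨a, ha⟩ := (lifts_iff_coeff_lifts _).mp h n
    exact hK.2 _ (ha ▸ a.2.isAlgebraic)
  have hg0 : g.Monic := monic_map_iff.mp (hg ▸ minpoly.monic hθ'i)
  have hgθ : aeval θ g = 0 := by
    apply (algebraMap k' K').injective
    rw [← aeval_algebraMap_apply, ← aeval_map_algebraMap K, hg, minpoly.aeval, map_zero]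
  refine (eq_of_monic_of_dvd_of_natDegree_le (minpoly.monic hθ'i) ((minpoly.monic hθi).map _) hdvd ?_).symm
  rw [natDegree_map, ← hg, natDegree_map]
  exact natDegree_le_of_dvd (minpoly.dvd k θ hgθ) hg0.ne_zero

theorem finiteDimensional_constExt : FiniteDimensional K K' := by
  haveI : Module.Finite k k' := Module.Finite.of_finite
  obtain ⟨θ, hθ⟩ := exists_gen (k := k) (k' := k')
  have hθ'i : IsIntegral K (algebraMap k' K' θ) :=
    ((IsIntegral.of_finite k θ).map (IsScalarTower.toAlgHom k k' K')).tower_top
  refine ⟨?_⟩
  rw [← Algebra.top_toSubmodule, ← adjoin_gen_eq_top hgen hθ]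
  exact hθ'i.fg_adjoin_singleton

theorem finrank_constExt : Module.finrank K K' = Module.finrank k k' := by
  haveI : Module.Finite k k' := Module.Finite.of_finite
  obtain ⟨θ, hθ⟩ := exists_gen (k := k) (k' := k')
  have hθi : IsIntegral k θ := IsIntegral.of_finite k θ
  have hθ'i : IsIntegral K (algebraMap k' K' θ) := (hθi.map (IsScalarTower.toAlgHom k k' K')).tower_top
  have h1 : IntermediateField.adjoin K ({algebraMap k' K' θ} : Set K') = ⊤ := by
    rw [← IntermediateField.toSubalgebra_inj,
      IntermediateField.adjoin_simple_toSubalgebra_of_isAlgebraic hθ'i.isAlgebraic,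
      adjoin_gen_eq_top hgen hθ, IntermediateField.top_toSubalgebra]
  have h2 : IntermediateField.adjoin k ({θ} : Set k') = ⊤ := by
    rw [← IntermediateField.toSubalgebra_inj,
      IntermediateField.adjoin_simple_toSubalgebra_of_isAlgebraic hθi.isAlgebraic,
      hθ, IntermediateField.top_toSubalgebra]
  rw [← IntermediateField.finrank_top' (F := K) (E := K'), ← h1, IntermediateField.adjoin.finrank hθ'i,
    minpoly_gen hgen hK, natDegree_map, ← IntermediateField.adjoin.finrank hθi, h2,
    IntermediateField.finrank_top']

theorem isGalois_constExt : IsGalois K K' := by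
  haveI : Module.Finite k k' := Module.Finite.of_finite
  haveI : IsGalois k k' := inferInstance
  obtain ⟨θ, hθ⟩ := exists_gen (k := k) (k' := k')
  set p := (minpoly k θ).map (algebraMap k K)
  have hsp : ((minpoly k θ).map (algebraMap k K')).Splits := by
    rw [IsScalarTower.algebraMap_eq k k' K', ← map_map]
    exact (Normal.splits inferInstance θ).map _
  haveI : IsSplittingField K K' p := by
    refine ⟨by rwa [map_map, ← IsScalarTower.algebraMap_eq k K K'], ?_⟩
    refine eq_top_iff.mpr ((adjoin_gen_eq_top hgen hθ).symm.le.trans (Algebra.adjoin_mono ?_))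
    rw [Set.singleton_subset_iff, mem_rootSet]
    refine ⟨Polynomial.map_ne_zero (minpoly.ne_zero (IsIntegral.of_finite k θ)), ?_⟩
    rw [aeval_map_algebraMap, aeval_algebraMap_apply, minpoly.aeval, map_zero]
  exact IsGalois.of_separable_splitting_field (p := p)
    (Polynomial.Separable.map (Algebra.IsSeparable.isSeparable k θ))

omit hgen hK in
theorem val_const_eq_one (Q : Place k K') {c : k'} (hc : c ≠ 0) : Q.1 (algebraMap k' K' c) = 1 := by
  haveI : Module.Finite k k' := Module.Finite.of_finite
  exact val_eq_one_of_isAlgebraic Q ((Algebra.IsAlgebraic.isAlgebraic c).algebraMap) (by simpa using hc)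

theorem exists_conj_eq {θ : k'} (σ : K' ≃ₐ[K] K') :
    ∃ c : k', σ (algebraMap k' K' θ) = algebraMap k' K' c := by
  haveI : Module.Finite k k' := Module.Finite.of_finite
  haveI : IsGalois k k' := inferInstance
  have hs : ((minpoly k θ).map (algebraMap k k')).Splits := Normal.splits inferInstance θ
  have hne : (minpoly k θ).map (algebraMap k K') ≠ 0 :=
    Polynomial.map_ne_zero (minpoly.ne_zero (IsIntegral.of_finite k θ))
  have hmem : σ (algebraMap k' K' θ) ∈ ((minpoly k θ).map (algebraMap k K')).roots := by
    rw [mem_roots hne, IsRoot, eval_map_algebraMap]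
    rw [show σ (algebraMap k' K' θ) = (σ.toAlgHom.restrictScalars k) (algebraMap k' K' θ) from rfl,
      aeval_algHom_apply, aeval_algebraMap_apply, minpoly.aeval, map_zero, map_zero]
  rw [IsScalarTower.algebraMap_eq k k' K', ← map_map, hs.roots_map, Multiset.mem_map] at hmem
  obtain ⟨c, -, hc⟩ := hmem
  exact ⟨c, hc.symm⟩

variable (k') in
theorem isFunctionField_constExt : IsFunctionField k' K' := by
  haveI : Module.Finite k k' := Module.Finite.of_finite
  haveI := finiteDimensional_constExt hgen hK
  have hF := IsFF.of_isFunctionField hK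
  obtain ⟨x, hx, -⟩ := id hF
  refine ⟨⟨algebraMap K K' x, ?_, ?_⟩, fun y hy => ?_⟩
  · have h1 : Transcendental k (algebraMap K K' x) := IsFF.transcendental_algebraMap hx
    exact fun halg => h1 (halg.restrictScalars k)
  · set x' := algebraMap K K' x
    have h1 := hF.finiteDimensional_ext (K' := K') hx
    have hle : IntermediateField.adjoin k ({x'} : Set K') ≤
        (IntermediateField.adjoin k' ({x'} : Set K')).restrictScalars k := by
      rw [IntermediateField.adjoin_simple_le_iff]
      exact IntermediateField.mem_adjoin_simple_self k' x'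
    haveI : FiniteDimensional (IntermediateField.adjoin k ({x'} : Set K')) K' := h1.1
    haveI : FiniteDimensional (IntermediateField.extendScalars hle) K' :=
      Module.Finite.of_restrictScalars_finite (IntermediateField.adjoin k ({x'} : Set K')) _ _
    exact this
  · -- constants
    have hyk : IsAlgebraic k y := hy.restrictScalars k
    have hyi : IsIntegral k' y := hy.isIntegral
    let E := IntermediateField.adjoin k' ({y} : Set K')
    haveI : Module.Finite k' E := IntermediateField.adjoin.finiteDimensional hyi
    haveI : Finite E := Module.finite_of_finite k'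
    have hgenE : Algebra.adjoin K (Set.range (algebraMap E K')) = ⊤ := by
      refine eq_top_iff.mpr (hgen.symm.le.trans (Algebra.adjoin_mono ?_))
      rintro _ ⟨c, rfl⟩
      exact ⟨algebraMap k' E c, (IsScalarTower.algebraMap_apply k' E K' c).symm⟩
    haveI : IsScalarTower k E K' := IsScalarTower.of_algebraMap_eq fun c => by
      rw [IsScalarTower.algebraMap_apply k k' K', IsScalarTower.algebraMap_apply k k' E]
      rfl
    have h1 := finrank_constExt (k' := E) hgenE hK
    rw [finrank_constExt hgen hK] at h1
    have h2 : Module.finrank k k' * Module.finrank k' E = Module.finrank k E :=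
      Module.finrank_mul_finrank k k' E
    have hpos : 0 < Module.finrank k k' := Module.finrank_pos
    have h3 : Module.finrank k' E = 1 := by
      rw [← h1] at h2
      exact Nat.eq_of_mul_eq_mul_left hpos (by rw [h2, mul_one])
    have hbot : E = ⊥ := IntermediateField.finrank_eq_one_iff.mp h3
    exact IntermediateField.mem_bot.mp (hbot ▸ IntermediateField.mem_adjoin_simple_self k' y)

end Groth.FunFld1
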