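import Groth.Agent.FunFld1.Zeta.ConstExt

/-!
Places of a constant field extension and the behaviour of the point counts.
-/

set_option linter.style.haveILetI false
set_option linter.unusedSectionVars false

namespace Groth.FunFld1

open WithZero FunFld Polynomial

variable {k K k' K' : Type*} [Field k] [Field K] [Field k'] [Field K'] [Algebra k K] [Algebra k k']
  [Algebra K K'] [Algebra k' K'] [Algebra k K'] [IsScalarTower k K K'] [IsScalarTower k k' K']
  [Finite k] [Finite k']

variable (k k') in
/-- A place of `K'/k` as a place of `K'/k'`. -/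
noncomputable def upPlace (Q : Place k K') : Place k' K' :=
  ⟨Q.1, fun c => by
    by_cases hc : c = 0
    · simp [hc]
    · exact (val_const_eq_one (k' := k') Q hc).le, Q.2.2⟩

variable (k k') in
/-- A place of `K'/k'` as a place of `K'/k`. -/
noncomputable def downPlace (R : Place k' K') : Place k K' :=
  ⟨R.1, fun c => by
    rw [IsScalarTower.algebraMap_apply k k' K']
    exact R.2.1 _, R.2.2⟩

variable (k k') in
/-- The two notions of place agree. -/
noncomputable def placeEquiv : Place k K' ≃ Place k' K' where
  toFun := upPlace k k'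
  invFun := downPlace k k'
  left_inv _ := rfl
  right_inv _ := rfl

/-- The residue field of a place, compared over `k` and over `k'`. -/
theorem deg_downPlace (R : Place k' K') :
    (downPlace k k' R).deg = Module.finrank k k' * R.deg := by
  letI i1 : Algebra k' (IsLocalRing.ResidueField (downPlace k k' R).O) := FunFld.Place.algRes R
  haveI : Module.Finite k k' := Module.Finite.of_finite
  have ht : IsScalarTower k k' (IsLocalRing.ResidueField (downPlace k k' R).O) :=
    IsScalarTower.of_algebraMap_eq fun c => by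
      show IsLocalRing.residue _ (algebraMap k (downPlace k k' R).O c) =
        IsLocalRing.residue R.O (algebraMap k' R.O (algebraMap k k' c))
      exact congrArg (IsLocalRing.residue R.O) (Subtype.ext (IsScalarTower.algebraMap_apply k k' K' c))
  exact (@Module.finrank_mul_finrank k k' (IsLocalRing.ResidueField (downPlace k k' R).O)
    _ _ _ _ _ _ ht).symm

variable (hgen : Algebra.adjoin K (Set.range (algebraMap k' K')) = ⊤) (hK : IsFunctionField k K)
include hgen hK

/-- The fibre of a place in a constant field extension. -/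
theorem constExt_fibre {Q : Place k K'} {P : Place k K} (h : IsOver Q P) :
    haveI := finiteDimensional_constExt hgen hK
    ramIdx Q P = 1 ∧
      ((IsFF.of_isFunctionField hK).above P : Finset (Place k K')).card * (upPlace k k' Q).deg = P.deg ∧
      ∀ m : ℕ, (upPlace k k' Q).deg ∣ m ↔ P.deg ∣ Module.finrank k k' * m := by
  classical
  haveI : Module.Finite k k' := Module.Finite.of_finite
  haveI := finiteDimensional_constExt hgen hK
  haveI := isGalois_constExt hgen hK
  have hF := IsFF.of_isFunctionField hK
  letI := Fintype.ofFinite k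
  obtain ⟨θ, hθ⟩ := exists_gen (k := k) (k' := k')
  set θ' := algebraMap k' K' θ
  have hθi : ∀ σ : K' ≃ₐ[K] K', Q.1 (σ θ') ≤ 1 := fun σ => by
    obtain ⟨c, hc⟩ := exists_conj_eq hgen hK σ (θ := θ)
    rw [hc]
    by_cases h0 : c = 0
    · simp [h0]
    · exact (val_const_eq_one (k' := k') Q h0).le
  have hsep : ∀ σ τ : K' ≃ₐ[K] K', σ ≠ τ → ¬ Q.1 (σ θ' - τ θ') < 1 := by
    intro σ τ hne
    obtain ⟨c, hc⟩ := exists_conj_eq hgen hK σ (θ := θ)
    obtain ⟨e, he⟩ := exists_conj_eq hgen hK τ (θ := θ)
    rw [hc, he, ← map_sub]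
    have hce : c - e ≠ 0 := by
      intro h0
      refine hne ?_
      have heq : σ θ' = τ θ' := by rw [hc, he, sub_eq_zero.mp h0]
      have := AlgHom.ext_of_adjoin_eq_top (φ₁ := σ.toAlgHom) (φ₂ := τ.toAlgHom)
        (adjoin_gen_eq_top hgen hθ) (fun x hx => by rw [Set.mem_singleton_iff.mp hx]; exact heq)
      exact AlgEquiv.ext fun z => DFunLike.congr_fun this z
    rw [val_const_eq_one (k' := k') Q hce]
    exact lt_irrefl 1
  obtain ⟨he, hcount, hdiv, -⟩ := sep_fibre hF h hθi hsep
  have hr : Q.deg = Module.finrank k k' * (upPlace k k' Q).deg := deg_downPlace (upPlace k k' Q)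
  have hrpos : 0 < Module.finrank k k' := Module.finrank_pos
  have hlcm : Q.deg = Nat.lcm P.deg (Module.finrank k k') := by
    refine Nat.dvd_antisymm (hdiv _ (Nat.dvd_lcm_left _ _) ?_)
      (Nat.lcm_dvd (deg_dvd_deg hF h) ⟨_, hr⟩)
    have h1 : (FiniteField.frobeniusAlgHom k k') ^ (Nat.lcm P.deg (Module.finrank k k')) = 1 := by
      refine orderOf_dvd_iff_pow_eq_one.mp ?_
      rw [FiniteField.orderOf_frobeniusAlgHom]
      exact Nat.dvd_lcm_right _ _
    have h2 := DFunLike.congr_fun h1 θ
    rw [AlgHom.coe_pow, FiniteField.coe_frobeniusAlgHom, pow_iterate,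
      ← Nat.card_eq_fintype_card] at h2
    rw [← map_pow, show θ ^ Nat.card k ^ _ = θ from h2, sub_self, map_zero]
    exact zero_lt_one
  refine ⟨he, ?_, fun m => ?_⟩
  · rw [finrank_constExt hgen hK, hr] at hcount
    exact Nat.eq_of_mul_eq_mul_left hrpos (by linarith)
  · rw [← Nat.mul_dvd_mul_iff_left hrpos, ← hr, hlcm, Nat.lcm_dvd_iff]
    exact ⟨fun h => h.1, fun h => ⟨h, Dvd.intro _ rfl⟩⟩

/-- `N'_m = N_{rm}`. -/
theorem Npt_constExt {m : ℕ} (hm : m ≠ 0) :
    Npt k' K' m = Npt k K (Module.finrank k k' * m) := by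
  classical
  haveI : Module.Finite k k' := Module.Finite.of_finite
  haveI := finiteDimensional_constExt hgen hK
  have hF := IsFF.of_isFunctionField hK
  have hK' := isFunctionField_constExt k' hgen hK
  have hF' := IsFF.of_isFunctionField hK'
  have hrm : Module.finrank k k' * m ≠ 0 := mul_ne_zero Module.finrank_pos.ne' hm
  rw [Npt, Npt, finsum_mem_eq_finite_toFinset_sum _ (finite_places_dvd hF' hm),
    finsum_mem_eq_finite_toFinset_sum _ (finite_places_dvd hF hrm)]
  have hover : ∀ R : Place k' K', ∃ P : Place k K, IsOver (downPlace k k' R) P := fun R =>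
    hF.exists_isOver _
  choose f hf using hover
  rw [← Finset.sum_fiberwise_of_maps_to (g := f) (fun R hR => ?_)]
  · refine Finset.sum_congr rfl fun P hP => ?_
    rw [Set.Finite.mem_toFinset] at hP
    have hPd : P.deg ∣ Module.finrank k k' * m := hP
    have hset : ((finite_places_dvd hF' hm).toFinset.filter fun R => f R = P) =
        (hF.above P : Finset (Place k K')).map (placeEquiv k k').toEmbedding := by
      ext R
      simp only [Finset.mem_filter, Set.Finite.mem_toFinset, Finset.mem_map_equiv, IsFF.mem_above]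
      constructor
      · rintro ⟨-, rfl⟩; exact hf R
      · intro h
        refine ⟨?_, over_unique (hf R) h⟩
        exact ((constExt_fibre hgen hK h).2.2 m).mpr hPd
    rw [hset, Finset.sum_map]
    obtain ⟨Q, hQ⟩ := hF.exists_over (K' := K') P
    obtain ⟨-, hc, -⟩ := constExt_fibre hgen hK hQ
    refine Eq.trans (Finset.sum_congr rfl (g := fun _ => (upPlace k k' Q).deg) fun R hR => ?_)
      (by rw [Finset.sum_const, smul_eq_mul, hc])
    obtain ⟨-, hc', -⟩ := constExt_fibre hgen hK (hF.mem_above.mp hR)
    have hpos : 0 < (hF.above P : Finset (Place k K')).card := Finset.card_pos.mpr ⟨R, hR⟩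
    exact Nat.eq_of_mul_eq_mul_left hpos (hc'.trans hc.symm)
  · rw [Set.Finite.mem_toFinset] at hR ⊢
    exact ((constExt_fibre hgen hK (hf R)).2.2 m).mp hR

end Groth.FunFld1
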