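import Groth.Agent.FunFld1.Zeta.Bombieri
import Groth.Agent.FunFld1.Zeta.ConstExt

/-!
Upper and lower bounds for the number of places of degree one: the Galois trick.
-/

set_option linter.style.haveILetI false
set_option linter.unusedSectionVars false

namespace Groth.FunFld1

open WithZero FunFld

theorem deg_eq_one_of_frob {k K : Type*} [Field k] [Field K] [Algebra k K] [Finite k] (hF : IsFF k K)
    {P : Place k K} (h : ∀ f : K, P.1 f ≤ 1 → P.1 (f ^ Nat.card k - f) < 1) : P.deg = 1 := by
  haveI := hF.finiteDimensional_residueField P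
  haveI : Finite (IsLocalRing.ResidueField P.O) := @Module.finite_of_finite k _ _ _ _ _
    (hF.finiteDimensional_residueField P)
  letI := Fintype.ofFinite k
  have h1 : FiniteField.frobeniusAlgHom k (IsLocalRing.ResidueField P.O) = 1 := by
    refine AlgHom.ext fun z => ?_
    obtain ⟨a, rfl⟩ := IsLocalRing.residue_surjective z
    rw [FiniteField.coe_frobeniusAlgHom]
    show IsLocalRing.residue P.O a ^ Fintype.card k = IsLocalRing.residue P.O a
    rw [← Nat.card_eq_fintype_card, ← map_pow, residue_eq_iff]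
    exact h a.1 a.2
  have h2 := FiniteField.orderOf_frobeniusAlgHom k (IsLocalRing.ResidueField P.O)
  rw [h1, orderOf_one] at h2
  exact h2.symm

theorem frobAt_refl_of_deg_one {k K : Type*} [Field k] [Field K] [Algebra k K] [Finite k]
    (hF : IsFF k K) {P : Place k K} (h : P.deg = 1) : FrobAt (AlgEquiv.refl : K ≃ₐ[k] K) P := by
  intro f hf
  refine ⟨hf, ?_⟩
  haveI : Finite (IsLocalRing.ResidueField P.O) := @Module.finite_of_finite k _ _ _ _ _
    (hF.finiteDimensional_residueField P)
  letI := Fintype.ofFinite (IsLocalRing.ResidueField P.O)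
  have hcard : Fintype.card (IsLocalRing.ResidueField P.O) = Nat.card k := by
    rw [← Nat.card_eq_fintype_card, card_residueField hF P, h, pow_one]
  have h2 := FiniteField.pow_card (IsLocalRing.residue P.O ⟨f, hf⟩)
  rw [hcard, ← map_pow] at h2
  exact (residue_eq_iff P _ _).mp h2.symm

theorem card_deg_one_le {k K : Type*} [Field k] [Field K] [Algebra k K] [Finite k]
    (hK : IsFunctionField k K) {s : ℕ} (hs : Nat.card k = s ^ 2) (hbig : (genus k K + 1) ^ 2 < s) :
    (Npt k K 1 : ℤ) ≤ (Nat.card k : ℤ) + (2 * genus k K + 1) * s := by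
  have hF := IsFF.of_isFunctionField hK
  have hfin := finite_places_dvd hF one_ne_zero
  rw [Npt, finsum_mem_eq_finite_toFinset_sum _ hfin, Nat.cast_sum]
  by_cases hne : hfin.toFinset.Nonempty
  · obtain ⟨Q, hQ⟩ := hne
    rw [Set.Finite.mem_toFinset] at hQ
    exact bombieri hK hs hbig (Nat.dvd_one.mp hQ) AlgEquiv.refl _ fun P hP =>
      frobAt_refl_of_deg_one hF (Nat.dvd_one.mp (hfin.mem_toFinset.mp hP))
  · rw [Finset.not_nonempty_iff_eq_empty.mp hne, Finset.sum_empty]
    positivity

variable {k F K L : Type*} [Field k] [Field F] [Field K] [Field L] [Algebra k F] [Algebra k K]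
  [Algebra k L] [Algebra F K] [Algebra F L] [Algebra K L] [IsScalarTower k F K] [IsScalarTower k F L]
  [IsScalarTower k K L] [IsScalarTower F K L] [Finite k] [FiniteDimensional F L] [IsGalois F L]

theorem galois_count (hF : IsFF k F) (hL : IsFunctionField k L) {s : ℕ} (hs : Nat.card k = s ^ 2)
    (hbig : (genus k L + 1) ^ 2 < s) {Q : Place k L} (hQ : Q.deg = 1)
    (S : Finset (Place k F)) (hS : ∀ P ∈ S, P.deg = 1) {θ : L}
    (hsep : ∀ P ∈ S, ∀ R : Place k L, IsOver R P → (∀ σ : L ≃ₐ[F] L, R.1 (σ θ) ≤ 1) ∧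
      ∀ σ τ : L ≃ₐ[F] L, σ ≠ τ → ¬ R.1 (σ θ - τ θ) < 1) :
    (S.card : ℤ) * Module.finrank F L -
        ((Module.finrank F L : ℤ) - 1) * ((Nat.card k : ℤ) + (2 * genus k L + 1) * s) ≤
      Npt k K 1 := by
  classical
  haveI : FiniteDimensional F K := FiniteDimensional.left F K L
  haveI : FiniteDimensional K L := FiniteDimensional.right F K L
  haveI : IsGalois K L := IsGalois.tower_top_of_isGalois F K L
  have hFL := hF.ext (K' := L)
  have hFK := hF.ext (K' := K)
  set B : ℤ := (Nat.card k : ℤ) + (2 * genus k L + 1) * s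
  set U : Finset (Place k L) := S.biUnion fun P => hF.above P with hUdef
  let f : (L ≃ₐ[F] L) → (L ≃ₐ[k] L) := fun σ => σ.restrictScalars k
  have hU : ∀ R ∈ U, ∃ P ∈ S, IsOver R P := fun R hR => by
    obtain ⟨P, hP, hRP⟩ := Finset.mem_biUnion.mp hR
    exact ⟨P, hP, hF.mem_above.mp hRP⟩
  -- each place has exactly one Frobenius element
  have hfib : ∀ R ∈ U, ∃! σ : L ≃ₐ[F] L, FrobAt (f σ) R := by
    intro R hR
    obtain ⟨P, hP, hRP⟩ := hU R hR
    obtain ⟨hint, hse⟩ := hsep P hP R hRP
    obtain ⟨-, -, -, σ, hσ, hσz⟩ := sep_fibre hF hRP hint hse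
    refine ⟨σ, fun z hz => ⟨?_, ?_⟩, fun τ hτ => ?_⟩
    · have h1 := congrArg (fun R' : Place k L => R'.1 z) hσ
      simp only [comapPlace_apply] at h1
      show R.1 (σ z) ≤ 1
      rw [h1]; exact hz
    · have h1 := hσz z hz
      rwa [hS P hP, pow_one] at h1
    · by_contra hne
      have hθ : R.1 θ ≤ 1 := by simpa using hint 1
      have h1 := (hτ θ hθ).2
      have h2 := hσz θ hθ
      rw [hS P hP, pow_one] at h2
      refine hse τ σ hne ?_
      rw [show τ θ - σ θ = (τ θ - θ ^ Nat.card k) - (σ θ - θ ^ Nat.card k) by ring]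
      exact (R.1.map_sub _ _).trans_lt (max_lt h1 h2)
  let N' : (L ≃ₐ[F] L) → ℤ := fun σ => ∑ R ∈ U.filter (fun R => FrobAt (f σ) R), (R.deg : ℤ)
  have hN'le : ∀ σ, N' σ ≤ B := fun σ =>
    bombieri hL hs hbig hQ (f σ) _ fun R hR => (Finset.mem_filter.mp hR).2
  have htot : ∑ σ, N' σ = (S.card : ℤ) * Module.finrank F L := by
    simp only [N', Finset.sum_filter]
    rw [Finset.sum_comm, Finset.sum_congr rfl (g := fun R : Place k L => (R.deg : ℤ)) fun R hR => by
      obtain ⟨σ, hσ, huniq⟩ := hfib R hR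
      rw [Finset.sum_eq_single σ (fun τ _ hτ => if_neg fun h => hτ (huniq τ h))
        (fun h => absurd (Finset.mem_univ σ) h), if_pos hσ]]
    rw [hUdef, Finset.sum_biUnion fun P _ P' _ hne => Finset.disjoint_left.mpr fun R h1 h2 =>
      hne (over_unique (hF.mem_above.mp h1) (hF.mem_above.mp h2))]
    rw [Finset.sum_congr rfl (g := fun _ => (Module.finrank F L : ℤ)) fun P hP => ?_,
      Finset.sum_const, nsmul_eq_mul]
    have h1 := hF.sum_ramIdx_deg (K' := L) P
    rw [hS P hP, mul_one, Finset.sum_congr rfl (g := fun R : Place k L => R.deg) fun R hR => by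
      obtain ⟨hint, hse⟩ := hsep P hP R (hF.mem_above.mp hR)
      rw [(sep_fibre hF (hF.mem_above.mp hR) hint hse).1, one_mul]] at h1
    exact_mod_cast h1
  have hlow : ∀ σ, (S.card : ℤ) * Module.finrank F L - ((Module.finrank F L : ℤ) - 1) * B ≤ N' σ := by
    intro σ
    rw [← htot, ← Finset.add_sum_erase Finset.univ N' (Finset.mem_univ σ)]
    have h1 : ∑ τ ∈ Finset.univ.erase σ, N' τ ≤ ((Module.finrank F L : ℤ) - 1) * B := by
      refine (Finset.sum_le_card_nsmul _ _ _ fun τ _ => hN'le τ).trans_eq ?_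
      rw [nsmul_eq_mul, Finset.card_erase_of_mem (Finset.mem_univ σ), Finset.card_univ,
        ← Nat.card_eq_fintype_card, IsGalois.card_aut_eq_finrank,
        Nat.cast_sub Module.finrank_pos]
      simp
    linarith
  -- the subgroup fixing `K`
  let ι : (L ≃ₐ[K] L) → (L ≃ₐ[F] L) := fun τ => τ.restrictScalars F
  have hι : Function.Injective ι := fun a b h => AlgEquiv.ext fun z => DFunLike.congr_fun h z
  set V := U.filter fun R => ∃ τ : L ≃ₐ[K] L, FrobAt (f (ι τ)) R with hVdef
  have hupper : ∑ τ, N' (ι τ) ≤ (Module.finrank K L : ℤ) * Npt k K 1 := by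
    have hfin := finite_places_dvd hFK (one_ne_zero (α := ℕ))
    have e1 : ∑ τ, N' (ι τ) = ∑ R ∈ V, (R.deg : ℤ) := by
      simp only [N', Finset.sum_filter, V]
      rw [Finset.sum_comm]
      refine Finset.sum_congr rfl fun R hR => ?_
      obtain ⟨σ, hσ, huniq⟩ := hfib R hR
      split_ifs with h
      · obtain ⟨τ, hτ⟩ := h
        rw [Finset.sum_eq_single τ
          (fun τ' _ hne => if_neg fun h' => hne (hι ((huniq _ h').trans (huniq _ hτ).symm)))
          (fun h => absurd (Finset.mem_univ τ) h), if_pos hτ]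
      · exact Finset.sum_eq_zero fun τ _ => if_neg fun hc => h ⟨τ, hc⟩
    have hover : ∀ R : Place k L, ∃ P : Place k K, IsOver R P := hFK.exists_isOver
    choose π hπ using hover
    have hmaps : ∀ R ∈ V, π R ∈ hfin.toFinset := by
      intro R hR
      obtain ⟨τ, hτ⟩ := (Finset.mem_filter.mp hR).2
      rw [Set.Finite.mem_toFinset]
      show (π R).deg ∣ 1
      rw [deg_eq_one_of_frob hFK fun z hz => ?_]
      have h1 := (hτ (algebraMap K L z) ((over_le_one_iff (hπ R) z).mpr hz)).2
      rw [show f (ι τ) (algebraMap K L z) = algebraMap K L z from τ.commutes z, Valuation.map_sub_swap,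
        ← map_pow, ← map_sub] at h1
      exact (over_lt_one_iff (hπ R) _).mp h1
    rw [e1, ← Finset.sum_fiberwise_of_maps_to hmaps, Npt,
      finsum_mem_eq_finite_toFinset_sum _ hfin, Nat.cast_sum, Finset.mul_sum]
    refine Finset.sum_le_sum fun P _ => ?_
    calc ∑ R ∈ V.filter (fun R => π R = P), (R.deg : ℤ)
        ≤ ∑ R ∈ (hFK.above P : Finset (Place k L)), (R.deg : ℤ) := by
          refine Finset.sum_le_sum_of_subset_of_nonneg (fun R hR => ?_) fun R _ _ => by positivity
          rw [IsFF.mem_above, ← (Finset.mem_filter.mp hR).2]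
          exact hπ R
      _ ≤ ∑ R ∈ (hFK.above P : Finset (Place k L)), ((ramIdx R P * R.deg : ℕ) : ℤ) := by
          refine Finset.sum_le_sum fun R hR => ?_
          have := overWith_pos (isOverWith_ramIdx (hFK.mem_above.mp hR))
          exact_mod_cast Nat.le_mul_of_pos_left _ this
      _ = _ := by rw [← Nat.cast_sum, hFK.sum_ramIdx_deg]; push_cast; rfl
  have hfinal : (Module.finrank K L : ℤ) * ((S.card : ℤ) * Module.finrank F L -
      ((Module.finrank F L : ℤ) - 1) * B) ≤ (Module.finrank K L : ℤ) * Npt k K 1 := by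
    refine le_trans ?_ hupper
    refine le_trans (le_of_eq ?_) (Finset.sum_le_sum fun τ _ => hlow (ι τ))
    rw [Finset.sum_const, Finset.card_univ, ← Nat.card_eq_fintype_card, IsGalois.card_aut_eq_finrank,
      nsmul_eq_mul]
  exact le_of_mul_le_mul_left hfinal (by exact_mod_cast Module.finrank_pos)

end Groth.FunFld1
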