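import Groth.Agent.FunFld1.Zeta.Log

/-!
The genus is invariant under constant field extensions of a finite field.
-/

set_option linter.style.haveILetI false
set_option linter.unusedSectionVars false

namespace Groth.FunFld1

open FunFld Polynomial

variable {k K k' K' : Type*} [Field k] [Field K] [Field k'] [Field K'] [Algebra k K] [Algebra k k']
  [Algebra K K'] [Algebra k' K'] [Algebra k K'] [IsScalarTower k K K'] [IsScalarTower k k' K']
  [Finite k] [Finite k']

theorem genus_constExt (hgen : Algebra.adjoin K (Set.range (algebraMap k' K')) = ⊤)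
    (hK : IsFunctionField k K) : genus k' K' = genus k K := by
  haveI : Module.Finite k k' := Module.Finite.of_finite
  have hK' := isFunctionField_constExt k' hgen hK
  obtain ⟨α, -, hα, hrev⟩ := exists_roots_numerZ hK
  have hα0 : ∀ i, α i ≠ 0 := fun i h => by
    have := hrev i
    rw [h, zero_mul] at this
    have h2 := two_le_card hK
    exact absurd (Nat.cast_eq_zero.mp this.symm) (by omega)
  set r := Module.finrank k k'
  have h1 : PowerSeries.map (Int.castRingHom ℂ) (numerZ k' K') =
      ((∏ i, (1 - C (α i ^ r) * X) : ℂ[X]) : PowerSeries ℂ) := by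
    refine eq_prod_of_Npt hK' fun m hm => ?_
    rw [Npt_constExt hgen hK hm, Npt_eq hK hα (mul_ne_zero Module.finrank_pos.ne' hm),
      Module.natCard_eq_pow_finrank (K := k) (V := k')]
    push_cast
    simp only [pow_mul, r]
  have hdeg : (∏ i, (1 - C (α i ^ r) * X) : ℂ[X]).natDegree = 2 * genus k K := by
    have hd : ∀ i, (1 - C (α i ^ r) * X : ℂ[X]).natDegree = 1 := fun i => by
      rw [natDegree_sub_eq_right_of_natDegree_lt (by
        rw [natDegree_one, natDegree_C_mul_X _ (pow_ne_zero _ (hα0 i))]; exact one_pos),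
        natDegree_C_mul_X _ (pow_ne_zero _ (hα0 i))]
    rw [natDegree_prod _ _ fun i _ => ne_zero_of_natDegree_gt (n := 0) (by rw [hd i]; exact one_pos),
      Finset.sum_congr rfl fun i _ => hd i, Finset.sum_const, Finset.card_univ, Fintype.card_fin,
      smul_eq_mul, mul_one]
  have hcoef : ∀ n, (∏ i, (1 - C (α i ^ r) * X) : ℂ[X]).coeff n =
      ((PowerSeries.coeff n (numerZ k' K') : ℤ) : ℂ) := fun n => by
    rw [← Polynomial.coeff_coe, ← h1, PowerSeries.coeff_map]; rfl
  refine le_antisymm ?_ ?_
  · have h2 : (∏ i, (1 - C (α i ^ r) * X) : ℂ[X]).coeff (2 * genus k' K') ≠ 0 := by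
      rw [hcoef, coeff_numerZ, lcoef_two_genus hK', Int.cast_ne_zero]
      have := two_le_card hK'
      exact pow_ne_zero _ (by omega)
    have := le_natDegree_of_ne_zero h2
    omega
  · by_contra hlt
    have h2 : (∏ i, (1 - C (α i ^ r) * X) : ℂ[X]).coeff (2 * genus k K) = 0 := by
      rw [hcoef, coeff_numerZ_of_gt hK' (by omega), Int.cast_zero]
    have h3 : (∏ i, (1 - C (α i ^ r) * X) : ℂ[X]).leadingCoeff = 0 := by
      rw [leadingCoeff, hdeg]; exact h2
    rw [leadingCoeff_eq_zero.mp h3, natDegree_zero] at hdeg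
    omega

end Groth.FunFld1
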