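import Groth.Agent.FunFld1.Zeta.Roots
import Mathlib.RingTheory.PowerSeries.Derivative
import Mathlib.RingTheory.PowerSeries.Inverse

/-!
The logarithmic derivative of the zeta series: `N_m = 1 + q^m - ∑ αᵢ^m`, and the behaviour of the
numerator in constant field extensions.
-/

set_option linter.style.haveILetI false
set_option linter.unusedSectionVars false

namespace Groth.FunFld1

open FunFld PowerSeries

/-- `t f'(t)`. -/
noncomputable def theta (f : ℂ⟦X⟧) : ℂ⟦X⟧ := X * d⁄dX ℂ f

theorem coeff_theta (f : ℂ⟦X⟧) (n : ℕ) : coeff n (theta f) = n * coeff n f := by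
  rcases n with _ | n
  · simp [theta]
  · rw [theta, coeff_succ_X_mul, coeff_derivative]
    push_cast
    ring

/-- `s` is the logarithmic derivative `t f'/f`. -/
def HasLog (f s : ℂ⟦X⟧) : Prop := theta f = s * f

theorem HasLog.mul {f g s t : ℂ⟦X⟧} (hf : HasLog f s) (hg : HasLog g t) : HasLog (f * g) (s + t) := by
  unfold HasLog theta at *
  rw [Derivation.leibniz, smul_eq_mul, smul_eq_mul]
  linear_combination g * hf + f * hg

theorem hasLog_one : HasLog (1 : ℂ⟦X⟧) 0 := by
  simp [HasLog, theta]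

theorem HasLog.prod {ι : Type*} (S : Finset ι) {f s : ι → ℂ⟦X⟧} (h : ∀ i ∈ S, HasLog (f i) (s i)) :
    HasLog (∏ i ∈ S, f i) (∑ i ∈ S, s i) := by
  classical
  induction S using Finset.induction with
  | empty => simpa using hasLog_one
  | insert a S ha ih =>
    rw [Finset.prod_insert ha, Finset.sum_insert ha]
    exact (h a (Finset.mem_insert_self a S)).mul (ih fun i hi => h i (Finset.mem_insert_of_mem hi))

theorem HasLog.unique {f s t : ℂ⟦X⟧} (hf : f ≠ 0) (hs : HasLog f s) (ht : HasLog f t) : s = t :=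
  mul_right_cancel₀ hf (hs.symm.trans ht)

theorem HasLog.eq {f g s : ℂ⟦X⟧} (hf : HasLog f s) (hg : HasLog g s)
    (hf1 : constantCoeff f = 1) (hg1 : constantCoeff g = 1) : f = g := by
  have hu : IsUnit g := isUnit_iff_constantCoeff.mpr (by simp [hg1])
  obtain ⟨h, rfl⟩ : ∃ h, f = h * g := ⟨f * ↑hu.unit⁻¹, by rw [mul_assoc, IsUnit.val_inv_mul, mul_one]⟩
  have h1 : constantCoeff h = 1 := by simpa [hg1] using hf1
  have h2 : d⁄dX ℂ h = 0 := by
    have hg0 : g ≠ 0 := hu.ne_zero
    unfold HasLog theta at hf hg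
    rw [Derivation.leibniz, smul_eq_mul, smul_eq_mul] at hf
    have h3 : (X * d⁄dX ℂ h) * g = 0 := by linear_combination hf - h * hg
    rcases mul_eq_zero.mp h3 with h4 | h4
    · exact (mul_eq_zero.mp h4).resolve_left PowerSeries.X_ne_zero
    · exact absurd h4 hg0
  have : h = 1 := derivative.ext (by rw [h2]; simp) (by rw [h1]; simp)
  rw [this, one_mul]

/-- `∑_{m ≥ 1} aᵐ tᵐ`. -/
noncomputable def geom (a : ℂ) : ℂ⟦X⟧ := mk fun n => if n = 0 then 0 else a ^ n

theorem coeff_geom {a : ℂ} {n : ℕ} (h : n ≠ 0) : coeff n (geom a) = a ^ n := by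
  simp [geom, h]

theorem hasLog_one_sub (a : ℂ) : HasLog (1 - C a * X : ℂ⟦X⟧) (-geom a) := by
  rw [HasLog]
  have e : -geom a * (1 - C a * X) = C a * (X * geom a) - geom a := by ring
  rw [e]
  ext n
  rw [coeff_theta, map_sub, map_sub, coeff_C_mul, coeff_C_mul]
  rcases n with _ | _ | n
  · simp [geom]
  · simp [geom, coeff_X, coeff_one]
  · rw [coeff_succ_X_mul, coeff_geom (by omega), coeff_geom (by omega)]
    simp [coeff_X, coeff_one, pow_succ]
    ring

variable {k K : Type*} [Field k] [Field K] [Algebra k K] [Finite k]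

theorem mul_aZ_eq_sum (hK : IsFunctionField k K) (n : ℕ) :
    n * aZ k K n = ∑ m ∈ Finset.Icc 1 n, Npt k K m * aZ k K ((n : ℤ) - m) := by
  classical
  have hF := IsFF.of_isFunctionField hK
  set S := (hF.finite_places_deg_le n).toFinset
  let A : ℤ → Finset (Divisor k K) := fun i =>
    ((hF.finite_effective i).subset (t := {D | 0 ≤ D ∧ D.deg = i}) fun D hD => ⟨hD.1, hD.2.le⟩).toFinset
  have hAcard : ∀ i, (A i).card = aZ k K i := fun i => (Set.ncard_eq_toFinset_card _ _).symm
  have hmemA : ∀ (i : ℤ) (D : Divisor k K), D ∈ A i ↔ 0 ≤ D ∧ D.deg = i := fun i D => by simp [A]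
  have hbound : ∀ D ∈ A (n : ℤ), ∀ P, D P * (P.deg : ℤ) ≤ n := fun D hD P => by
    obtain ⟨h1, h2⟩ := (hmemA _ _).mp hD
    exact (IsFF.mul_deg_le_deg h1 P).trans h2.le
  have hdeg : ∀ D ∈ A (n : ℤ), n = ∑ P ∈ S, (D P).toNat * P.deg := by
    intro D hD
    obtain ⟨h1, h2⟩ := (hmemA _ _).mp hD
    have hsub : D.support ⊆ S := fun P hP => by
      have h3 := hbound D hD P
      have h4 : 0 < D P := lt_of_le_of_ne (h1 P) (Finsupp.mem_support_iff.mp hP).symm
      have h5 : (P.deg : ℤ) ≤ n := le_trans (le_mul_of_one_le_left (by positivity) h4) h3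
      simp only [S, Set.Finite.mem_toFinset, Set.mem_ofPred_eq]
      omega
    zify
    rw [← h2, Divisor.deg, Finsupp.sum_of_support_subset _ hsub _ (by simp)]
    exact Finset.sum_congr rfl fun P _ => by rw [Int.toNat_of_nonneg (h1 P)]
  -- count the multiples of a place below a divisor
  have hfib : ∀ P ∈ S, ∑ D ∈ A (n : ℤ), (D P).toNat =
      ∑ j ∈ Finset.Icc 1 n, aZ k K ((n : ℤ) - j * P.deg) := by
    intro P _
    have hP : (1 : ℤ) ≤ P.deg := by exact_mod_cast hF.deg_pos P
    have e : ∀ D ∈ A (n : ℤ), (D P).toNat =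
        ((Finset.Icc 1 n).filter fun j : ℕ => (j : ℤ) ≤ D P).card := by
      intro D hD
      have h3 := hbound D hD P
      have h4 : D P ≤ n := le_trans (le_mul_of_one_le_right (((hmemA _ _).mp hD).1 P) hP) h3
      have : (Finset.Icc 1 n).filter (fun j : ℕ => (j : ℤ) ≤ D P) = Finset.Icc 1 (D P).toNat := by
        ext j
        simp only [Finset.mem_filter, Finset.mem_Icc]
        omega
      rw [this, Nat.card_Icc, Nat.add_sub_cancel]
    rw [Finset.sum_congr rfl e]
    simp only [Finset.card_filter]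
    rw [Finset.sum_comm]
    refine Finset.sum_congr rfl fun j hj => ?_
    rw [← Finset.card_filter, ← hAcard]
    refine Finset.card_nbij' (fun D => D - Finsupp.single P (j : ℤ))
      (fun E => E + Finsupp.single P (j : ℤ)) ?_ ?_ (fun D _ => sub_add_cancel _ _)
      (fun E _ => add_sub_cancel_right _ _)
    · intro D hD
      simp only [Finset.mem_coe, Finset.mem_filter, hmemA] at hD ⊢
      refine ⟨fun Q => ?_, by rw [deg_sub, deg_single, hD.1.2]⟩
      rw [Finsupp.sub_apply, Finsupp.single_apply]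
      split_ifs with h
      · subst h
        simp only [Finsupp.coe_zero, Pi.zero_apply]
        omega
      · simpa using hD.1.1 Q
    · intro E hE
      simp only [Finset.mem_coe, Finset.mem_filter, hmemA] at hE ⊢
      refine ⟨⟨add_nonneg hE.1 (Finsupp.single_nonneg.mpr (Int.natCast_nonneg j)), ?_⟩, ?_⟩
      · rw [deg_add, deg_single, hE.2]; ring
      · rw [Finsupp.add_apply, Finsupp.single_eq_same]
        have h0 : (0 : ℤ) ≤ E P := hE.1 P
        omega
  have hreindex : ∀ P ∈ S, ∑ j ∈ Finset.Icc 1 n, aZ k K ((n : ℤ) - j * P.deg) =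
      ∑ m ∈ (Finset.Icc 1 n).filter (fun m => P.deg ∣ m), aZ k K ((n : ℤ) - m) := by
    intro P _
    have hP : 1 ≤ P.deg := hF.deg_pos P
    rw [← Finset.sum_filter_of_ne (p := fun j => j * P.deg ≤ n) fun j _ hne => by
      by_contra hc
      refine hne (aZ_of_neg ?_)
      have : (n : ℤ) < j * P.deg := by exact_mod_cast not_le.mp hc
      linarith]
    refine Finset.sum_nbij' (fun j => j * P.deg) (fun m => m / P.deg) ?_ ?_ ?_ ?_ ?_
    · intro j hj
      simp only [Finset.mem_coe, Finset.mem_filter, Finset.mem_Icc] at hj ⊢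
      exact ⟨⟨Nat.one_le_iff_ne_zero.mpr (Nat.mul_ne_zero (by omega) (by omega)), hj.2⟩, Dvd.intro_left _ rfl⟩
    · intro m hm
      simp only [Finset.mem_coe, Finset.mem_filter, Finset.mem_Icc] at hm ⊢
      rw [Nat.div_mul_cancel hm.2]
      refine ⟨⟨(Nat.one_le_div_iff (by omega)).mpr (Nat.le_of_dvd (by omega) hm.2), ?_⟩, hm.1.2⟩
      exact le_trans (Nat.div_le_self _ _) hm.1.2
    · intro j _
      exact Nat.mul_div_cancel _ (by omega)
    · intro m hm
      simp only [Finset.mem_coe, Finset.mem_filter] at hm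
      exact Nat.div_mul_cancel hm.2
    · intro j _
      push_cast
      rfl
  have hN : ∀ m ∈ Finset.Icc 1 n, Npt k K m = ∑ P ∈ S.filter (fun P => P.deg ∣ m), P.deg := by
    intro m hm
    rw [Finset.mem_Icc] at hm
    rw [Npt, finsum_mem_eq_finite_toFinset_sum _ (finite_places_dvd hF (by omega))]
    refine Finset.sum_congr ?_ fun _ _ => rfl
    ext P
    simp only [Set.Finite.mem_toFinset, Finset.mem_filter, S, Set.mem_ofPred_eq]
    exact ⟨fun h => ⟨(Nat.le_of_dvd (by omega) h).trans hm.2, h⟩, fun h => h.2⟩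
  calc n * aZ k K n = ∑ D ∈ A (n : ℤ), n := by rw [Finset.sum_const, smul_eq_mul, hAcard, mul_comm]
    _ = ∑ D ∈ A (n : ℤ), ∑ P ∈ S, (D P).toNat * P.deg := Finset.sum_congr rfl hdeg
    _ = ∑ P ∈ S, ∑ m ∈ (Finset.Icc 1 n).filter (fun m => P.deg ∣ m),
          aZ k K ((n : ℤ) - m) * P.deg := by
        rw [Finset.sum_comm]
        refine Finset.sum_congr rfl fun P hP => ?_
        rw [← Finset.sum_mul, hfib P hP, hreindex P hP, Finset.sum_mul]
    _ = ∑ m ∈ Finset.Icc 1 n, ∑ P ∈ S.filter (fun P => P.deg ∣ m), aZ k K ((n : ℤ) - m) * P.deg := by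
        simp only [Finset.sum_filter]
        exact Finset.sum_comm
    _ = _ := by
        refine Finset.sum_congr rfl fun m hm => ?_
        rw [hN m hm, Finset.sum_mul]
        exact Finset.sum_congr rfl fun P _ => mul_comm _ _

variable (k K) in
/-- `∑ N_m tᵐ`. -/
noncomputable def nSer : ℂ⟦X⟧ := mk fun m => if m = 0 then 0 else (Npt k K m : ℂ)

theorem hasLog_numerZ (hK : IsFunctionField k K) :
    HasLog (PowerSeries.map (Int.castRingHom ℂ) (numerZ k K))
      (-geom 1 + -geom (Nat.card k) + nSer k K) := by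
  have hZ : HasLog (PowerSeries.map (Int.castRingHom ℂ) (zetaZ k K)) (nSer k K) := by
    unfold HasLog
    ext n
    rw [coeff_theta, coeff_mul, Finset.Nat.sum_antidiagonal_eq_sum_range_succ
      (fun i j => coeff i (nSer k K) * coeff j (PowerSeries.map (Int.castRingHom ℂ) (zetaZ k K)))]
    simp only [zetaZ, nSer, PowerSeries.coeff_map, coeff_mk, effDivCount_eq_aZ, eq_intCast, Int.cast_natCast]
    have h := congrArg (Nat.cast : ℕ → ℂ) (mul_aZ_eq_sum hK n)
    push_cast at h
    rw [h, Finset.sum_range_succ', if_pos rfl, zero_mul, add_zero,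
      show Finset.Icc 1 n = (Finset.range n).map ⟨fun i => i + 1, fun a b h => by simpa using h⟩ by
        ext m
        simp only [Finset.mem_Icc, Finset.mem_map, Finset.mem_range, Function.Embedding.coeFn_mk]
        exact ⟨fun h => ⟨m - 1, by omega, by omega⟩, fun ⟨a, ha, e⟩ => by omega⟩, Finset.sum_map]
    refine Finset.sum_congr rfl fun i hi => ?_
    have hi' := Finset.mem_range.mp hi
    simp only [Function.Embedding.coeFn_mk, if_neg (Nat.succ_ne_zero i)]
    rw [Nat.cast_sub (show i + 1 ≤ n by omega)]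
  rw [numerZ, map_mul, map_mul, map_sub, map_sub, map_one, map_mul, map_X, map_C]
  refine HasLog.mul (HasLog.mul ?_ ?_) hZ
  · simpa using hasLog_one_sub 1
  · simpa using hasLog_one_sub (Nat.card k : ℂ)

theorem constantCoeff_numerZ (hK : IsFunctionField k K) :
    constantCoeff (PowerSeries.map (Int.castRingHom ℂ) (numerZ k K)) = 1 := by
  rw [← coeff_zero_eq_constantCoeff_apply, PowerSeries.coeff_map, coeff_numerZ, Nat.cast_zero,
    lcoef_zero hK, map_one]

theorem hasLog_prod {ι : Type*} [Fintype ι] (α : ι → ℂ) :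
    HasLog ((∏ i, (1 - Polynomial.C (α i) * Polynomial.X) : Polynomial ℂ) : ℂ⟦X⟧)
      (∑ i, -geom (α i)) := by
  rw [← Polynomial.coeToPowerSeries.ringHom_apply, map_prod]
  refine HasLog.prod _ fun i _ => ?_
  simpa using hasLog_one_sub (α i)

theorem Npt_eq (hK : IsFunctionField k K) {ι : Type*} [Fintype ι] {α : ι → ℂ}
    (hα : PowerSeries.map (Int.castRingHom ℂ) (numerZ k K) =
      ((∏ i, (1 - Polynomial.C (α i) * Polynomial.X) : Polynomial ℂ) : ℂ⟦X⟧))
    {m : ℕ} (hm : m ≠ 0) :
    (Npt k K m : ℂ) = 1 + (Nat.card k : ℂ) ^ m - ∑ i, α i ^ m := by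
  have h0 : PowerSeries.map (Int.castRingHom ℂ) (numerZ k K) ≠ 0 := fun h => by
    have := constantCoeff_numerZ hK
    simp [h] at this
  have hp := hasLog_prod α
  rw [← hα] at hp
  have he := congrArg (coeff m) (HasLog.unique h0 (hasLog_numerZ hK) hp)
  simp only [map_add, map_neg, map_sum, coeff_geom hm, nSer, coeff_mk, if_neg hm, one_pow,
    Finset.sum_neg_distrib] at he
  linear_combination he

theorem eq_prod_of_Npt (hK : IsFunctionField k K) {ι : Type*} [Fintype ι] {α : ι → ℂ}
    (h : ∀ m : ℕ, m ≠ 0 → (Npt k K m : ℂ) = 1 + (Nat.card k : ℂ) ^ m - ∑ i, α i ^ m) :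
    PowerSeries.map (Int.castRingHom ℂ) (numerZ k K) =
      ((∏ i, (1 - Polynomial.C (α i) * Polynomial.X) : Polynomial ℂ) : ℂ⟦X⟧) := by
  refine HasLog.eq (hasLog_numerZ hK) ?_ (constantCoeff_numerZ hK) ?_
  · convert hasLog_prod α using 1
    ext m
    by_cases hm : m = 0
    · subst hm; simp [geom, nSer]
    · simp only [map_add, map_neg, map_sum, coeff_geom hm, nSer, coeff_mk, if_neg hm, one_pow,
        Finset.sum_neg_distrib, h m hm]
      ring
  · rw [← coeff_zero_eq_constantCoeff_apply, Polynomial.coeff_coe, Polynomial.coeff_zero_prod]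
    simp

end Groth.FunFld1
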