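import Groth.Agent.FunFld1.Zeta.Schmidt
import Mathlib.RingTheory.PowerSeries.Trunc

/-!
The numerator of the zeta series: polynomiality, functional equation, value at one.
-/

set_option linter.style.haveILetI false
set_option linter.unusedSectionVars false

namespace Groth.FunFld1

open WithZero FunFld

variable {k K : Type*} [Field k] [Field K] [Algebra k K]

variable (k K) in
/-- The coefficients of `(1 - t)(1 - q t) Z(t)`, indexed by `ℤ`. -/
noncomputable def lcoef (i : ℤ) : ℤ :=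
  (aZ k K i : ℤ) - ((Nat.card k : ℤ) + 1) * aZ k K (i - 1) + (Nat.card k : ℤ) * aZ k K (i - 2)

theorem coeff_X_mul_int (F : PowerSeries ℤ) (f : ℤ → ℤ) (hf : ∀ n : ℕ, PowerSeries.coeff n F = f n)
    (h0 : f (-1) = 0) (n : ℕ) : PowerSeries.coeff n (PowerSeries.X * F) = f ((n : ℤ) - 1) := by
  rcases n with _ | n
  · rw [PowerSeries.coeff_zero_X_mul, Nat.cast_zero, zero_sub, h0]
  · rw [PowerSeries.coeff_succ_X_mul, hf]
    push_cast
    rw [add_sub_cancel_right]

theorem coeff_numerZ (i : ℕ) : PowerSeries.coeff i (numerZ k K) = lcoef k K i := by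
  have e : numerZ k K = zetaZ k K -
      PowerSeries.C ((Nat.card k : ℤ) + 1) * (PowerSeries.X * zetaZ k K) +
      PowerSeries.C (Nat.card k : ℤ) * (PowerSeries.X * (PowerSeries.X * zetaZ k K)) := by
    rw [numerZ, map_add, map_one]; ring
  have h0 : ∀ n : ℕ, PowerSeries.coeff n (zetaZ k K) = (aZ k K n : ℤ) := fun n => by
    rw [zetaZ, PowerSeries.coeff_mk, effDivCount_eq_aZ]
  have h1 : ∀ n : ℕ, PowerSeries.coeff n (PowerSeries.X * zetaZ k K) = (aZ k K ((n : ℤ) - 1) : ℤ) :=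
    coeff_X_mul_int _ (fun m => (aZ k K m : ℤ)) h0 (by simp [aZ_of_neg (show (-1 : ℤ) < 0 by norm_num)])
  have h2 : ∀ n : ℕ, PowerSeries.coeff n (PowerSeries.X * (PowerSeries.X * zetaZ k K)) =
      (aZ k K ((n : ℤ) - 1 - 1) : ℤ) :=
    coeff_X_mul_int _ (fun m => (aZ k K (m - 1) : ℤ)) h1
      (by simp [aZ_of_neg (show (-2 : ℤ) < 0 by norm_num)])
  rw [e, map_add, map_sub, PowerSeries.coeff_C_mul, PowerSeries.coeff_C_mul, h0, h1, h2, lcoef,
    sub_sub, show (1 : ℤ) + 1 = 2 by norm_num]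

theorem lcoef_of_neg {i : ℤ} (h : i < 0) : lcoef k K i = 0 := by
  rw [lcoef, aZ_of_neg h, aZ_of_neg (by omega), aZ_of_neg (by omega)]; simp

theorem sum_lcoef (N : ℕ) :
    ∑ i ∈ Finset.range (N + 1), lcoef k K i =
      (aZ k K N : ℤ) - (Nat.card k : ℤ) * aZ k K ((N : ℤ) - 1) := by
  induction N with
  | zero =>
    simp [lcoef, aZ_of_neg (show (-1 : ℤ) < 0 by norm_num), aZ_of_neg (show (-2 : ℤ) < 0 by norm_num)]
  | succ N ih =>
    rw [Finset.sum_range_succ, ih, lcoef]
    push_cast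
    rw [add_sub_cancel_right, show (N : ℤ) + 1 - 2 = N - 1 by ring]
    ring

variable [Finite k] (hK : IsFunctionField k K)
include hK

local notation "hF" => IsFF.of_isFunctionField hK

theorem exists_deg (n : ℤ) : ∃ D : Divisor k K, D.deg = n := by
  obtain ⟨D, hD⟩ := exists_deg_one_divisor hK
  refine ⟨n • D, ?_⟩
  rw [← degHom_eq_deg, map_zsmul, degHom_eq_deg, hD, smul_eq_mul, mul_one]

theorem aZ_formula (n : ℤ) :
    ((Nat.card k : ℤ) - 1) * (aZ k K n : ℤ) = cs k K n - classNum k K := by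
  rw [card_sub_one_mul_aZ hK, ncard_ClN hK (exists_deg hK n)]

theorem aZ_zero : aZ k K 0 = 1 := by
  have : {D : Divisor k K | 0 ≤ D ∧ D.deg = 0} = {0} := by
    ext D
    simp only [Set.mem_ofPred_eq, Set.mem_singleton_iff]
    refine ⟨fun h => (eq_of_le_of_deg_eq (hF) h.1 (by rw [h.2]; exact deg_zero)).symm, ?_⟩
    rintro rfl
    exact ⟨le_rfl, deg_zero⟩
  rw [aZ, this, Set.ncard_singleton]

theorem cs_symm (n : ℤ) :
    (cs k K n : ℚ) = (Nat.card k : ℚ) ^ (n + 1 - genus k K) * cs k K (2 * genus k K - 2 - n) := by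
  classical
  obtain ⟨C, hC⟩ := exists_isCanonical hK
  have hq : (Nat.card k : ℚ) ≠ 0 := by
    have := two_le_card hK; exact_mod_cast (show Nat.card k ≠ 0 by omega)
  have hCd := deg_canonical hK hC
  rw [cs, cs, finsum_mem_eq_finite_toFinset_sum _ (finite_ClN hK n),
    finsum_mem_eq_finite_toFinset_sum _ (finite_ClN hK _)]
  push_cast
  rw [Finset.mul_sum]
  have hmaps : ∀ (a b : ℤ), a + b = C.deg → ∀ c ∈ ClN k K a, cls C - c ∈ ClN k K b := by
    rintro a b hab _ ⟨D, hD, rfl⟩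
    exact ⟨C - D, by show (C - D).deg = b; rw [deg_sub, show D.deg = a from hD]; omega, rfl⟩
  refine Finset.sum_nbij' (fun c => cls C - c) (fun c => cls C - c) ?_ ?_
    (fun c _ => sub_sub_cancel _ _) (fun c _ => sub_sub_cancel _ _) ?_
  · intro c hc
    simp only [Finset.mem_coe, Set.Finite.mem_toFinset] at *
    exact hmaps _ _ (by omega) c hc
  · intro c hc
    simp only [Finset.mem_coe, Set.Finite.mem_toFinset] at *
    exact hmaps _ _ (by omega) c hc
  · intro c hc
    rw [Set.Finite.mem_toFinset] at hc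
    obtain ⟨D, hD, rfl⟩ := hc
    rw [show cls C - cls D = cls (C - D) from rfl, (hF).ellCl_cls, (hF).ellCl_cls, ← zpow_natCast,
      ← zpow_natCast, ← zpow_add₀ hq]
    congr 1
    have := riemann_roch hK hC D
    rw [show D.deg = n from hD] at this
    linarith

theorem lcoef_mul (i : ℤ) :
    ((Nat.card k : ℤ) - 1) * lcoef k K i =
      cs k K i - ((Nat.card k : ℤ) + 1) * cs k K (i - 1) + (Nat.card k : ℤ) * cs k K (i - 2) := by
  have h1 := aZ_formula hK i
  have h2 := aZ_formula hK (i - 1)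
  have h3 := aZ_formula hK (i - 2)
  rw [lcoef]
  linear_combination h1 - ((Nat.card k : ℤ) + 1) * h2 + (Nat.card k : ℤ) * h3

theorem lcoef_symm (i : ℤ) :
    (lcoef k K i : ℚ) = (Nat.card k : ℚ) ^ (i - genus k K) * lcoef k K (2 * genus k K - i) := by
  have hq : (Nat.card k : ℚ) ≠ 0 := by
    have := two_le_card hK; exact_mod_cast (show Nat.card k ≠ 0 by omega)
  have hq1 : ((Nat.card k : ℚ) - 1) ≠ 0 := by
    have : (2 : ℚ) ≤ Nat.card k := by exact_mod_cast two_le_card hK
    linarith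
  have h1 : ((Nat.card k : ℚ) - 1) * (lcoef k K i : ℚ) =
      cs k K i - ((Nat.card k : ℚ) + 1) * cs k K (i - 1) + (Nat.card k : ℚ) * cs k K (i - 2) := by
    exact_mod_cast lcoef_mul hK i
  have h2 : ((Nat.card k : ℚ) - 1) * (lcoef k K (2 * genus k K - i) : ℚ) =
      cs k K (2 * genus k K - i) - ((Nat.card k : ℚ) + 1) * cs k K (2 * genus k K - i - 1) +
        (Nat.card k : ℚ) * cs k K (2 * genus k K - i - 2) := by
    exact_mod_cast lcoef_mul hK (2 * genus k K - i)
  apply mul_left_cancel₀ hq1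
  rw [mul_left_comm, h1, h2, cs_symm hK i, cs_symm hK (i - 1), cs_symm hK (i - 2),
    show (2 * (genus k K : ℤ) - 2 - i) = 2 * genus k K - i - 2 by ring,
    show (2 * (genus k K : ℤ) - 2 - (i - 1)) = 2 * genus k K - i - 1 by ring,
    show (2 * (genus k K : ℤ) - 2 - (i - 2)) = 2 * genus k K - i by ring,
    show i + 1 - (genus k K : ℤ) = (i - genus k K) + 1 by ring,
    show i - 1 + 1 - (genus k K : ℤ) = i - genus k K by ring,
    show i - 2 + 1 - (genus k K : ℤ) = (i - genus k K) - 1 by ring,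
    zpow_add_one₀ hq, zpow_sub_one₀ hq]
  field_simp
  ring

theorem lcoef_zero : lcoef k K 0 = 1 := by
  rw [lcoef, aZ_zero hK, aZ_of_neg (by norm_num), aZ_of_neg (by norm_num)]; simp

theorem lcoef_two_genus : lcoef k K (2 * genus k K : ℕ) = (Nat.card k : ℤ) ^ genus k K := by
  have h := lcoef_symm hK (2 * genus k K : ℕ)
  push_cast at h
  rw [show (2 : ℤ) * genus k K - genus k K = (genus k K : ℕ) by ring, sub_self, lcoef_zero hK,
    zpow_natCast, Int.cast_one, mul_one] at h
  push_cast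
  exact_mod_cast h

theorem coeff_numerZ_of_gt {n : ℕ} (h : 2 * genus k K < n) :
    PowerSeries.coeff n (numerZ k K) = 0 := by
  rw [coeff_numerZ]
  have h1 := lcoef_symm hK n
  rw [lcoef_of_neg (k := k) (K := K) (i := 2 * genus k K - n) (by omega), Int.cast_zero, mul_zero] at h1
  exact_mod_cast h1

theorem coeff_numerZ_symm {i : ℕ} (hi : i ≤ 2 * genus k K) :
    ((PowerSeries.coeff (2 * genus k K - i) (numerZ k K) : ℤ) : ℚ) =
      (Nat.card k : ℚ) ^ ((genus k K : ℤ) - i) * ((PowerSeries.coeff i (numerZ k K) : ℤ) : ℚ) := by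
  rw [coeff_numerZ, coeff_numerZ, Nat.cast_sub hi]
  push_cast
  rw [lcoef_symm hK (2 * (genus k K : ℤ) - i), sub_sub_cancel,
    show 2 * (genus k K : ℤ) - i - genus k K = genus k K - i by ring]

theorem exists_poly_numerZ :
    ∃ p : Polynomial ℤ, (p : PowerSeries ℤ) = numerZ k K ∧ p.natDegree ≤ 2 * genus k K := by
  refine ⟨PowerSeries.trunc (2 * genus k K + 1) (numerZ k K), ?_, ?_⟩
  · ext n
    rw [Polynomial.coeff_coe, PowerSeries.coeff_trunc]
    split_ifs with h
    · rfl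
    · exact (coeff_numerZ_of_gt hK (by omega)).symm
  · exact Nat.lt_succ_iff.mp (PowerSeries.natDegree_trunc_lt _ _)

theorem eval_one_numerZ (p : Polynomial ℤ) (hp : (p : PowerSeries ℤ) = numerZ k K) :
    p.eval 1 = classNum k K := by
  obtain ⟨p', hp', hd⟩ := exists_poly_numerZ hK
  obtain rfl : p = p' := Polynomial.coe_inj.mp (hp.trans hp'.symm)
  rw [Polynomial.eval_eq_sum_range' (Nat.lt_succ_of_le hd)]
  simp only [one_pow, mul_one, ← Polynomial.coeff_coe, hp', coeff_numerZ]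
  rw [sum_lcoef]
  have h1 := aZ_formula hK ((2 * genus k K : ℕ) : ℤ)
  have h2 := aZ_formula hK (((2 * genus k K : ℕ) : ℤ) - 1)
  rw [cs_of_deg_ge hK (by omega), ncard_ClN hK (exists_deg hK _),
    show (((2 * genus k K : ℕ) : ℤ) + 1 - genus k K).toNat = genus k K + 1 by omega] at h1
  rw [cs_of_deg_ge hK (by omega), ncard_ClN hK (exists_deg hK _),
    show (((2 * genus k K : ℕ) : ℤ) - 1 + 1 - genus k K).toNat = genus k K by omega] at h2
  have hq : ((Nat.card k : ℤ) - 1) ≠ 0 := by have := two_le_card hK; omega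
  apply mul_left_cancel₀ hq
  rw [mul_sub, ← mul_assoc, mul_comm _ (Nat.card k : ℤ), mul_assoc, h1, h2, pow_succ]
  ring

end Groth.FunFld1
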