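import Groth.Agent.FunFld1.Zeta.RHSetup
import Groth.Agent.Funfld2.Hasse.Separable
import Mathlib.FieldTheory.SeparableClosure
import Mathlib.FieldTheory.Normal.Closure
import Mathlib.FieldTheory.AlgebraicClosure

/-!
The Riemann hypothesis for function fields over finite fields (Bombieri's proof).
-/

set_option linter.style.haveILetI false
set_option linter.unusedSectionVars false

namespace Groth.FunFld1

open WithZero FunFld Polynomial

variable {k K : Type*} [Field k] [Field K] [Algebra k K] [Finite k]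

set_option maxHeartbeats 1000000 in
theorem exists_asymp (hK : IsFunctionField k K) :
    ∃ (e : ℕ) (Cst : ℤ) (j₀ : ℕ), 0 < e ∧ ∀ j ≥ j₀,
      |(Npt k K (2 * e * j) : ℤ) - (Nat.card k : ℤ) ^ (2 * e * j)| ≤ Cst * (Nat.card k : ℤ) ^ (e * j) := by
  classical
  have hF := IsFF.of_isFunctionField hK
  obtain ⟨x, hx, hsep⟩ := Groth.Funfld2.Hasse.exists_separating hF
  haveI := hF.finiteDimensional hx
  set F0 := IntermediateField.adjoin k ({x} : Set K) with hF0
  let Ω := AlgebraicClosure K
  haveI : Algebra.IsAlgebraic F0 Ω := Algebra.IsAlgebraic.trans F0 K Ω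
  haveI : IsAlgClosure F0 Ω := ⟨inferInstance, inferInstance⟩
  haveI : Normal F0 Ω := IsAlgClosure.normal F0 Ω
  let L := IntermediateField.normalClosure F0 K Ω
  haveI hsepL : Algebra.IsSeparable F0 L := by
    rw [← le_separableClosure_iff]
    show IntermediateField.normalClosure F0 K Ω ≤ separableClosure F0 Ω
    rw [normalClosure_def]
    refine iSup_le fun f => ?_
    rintro _ ⟨y, rfl⟩
    rw [mem_separableClosure_iff]
    have := Algebra.IsSeparable.isSeparable F0 y
    unfold IsSeparable at this ⊢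
    rwa [show f.toRingHom y = f y from rfl, minpoly.algHom_eq f f.injective]
  haveI : IsGalois F0 L := ⟨⟩
  haveI : IsScalarTower k K L := IsScalarTower.of_algebraMap_eq fun c => Subtype.ext (by
    show algebraMap k Ω c = algebraMap K Ω (algebraMap k K c)
    rw [← IsScalarTower.algebraMap_apply])
  haveI : FiniteDimensional F0 L := inferInstance
  haveI : IsScalarTower F0 K L := IsScalarTower.of_algebraMap_eq fun c => Subtype.ext (by
    show algebraMap F0 Ω c = algebraMap K Ω (algebraMap F0 K c)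
    rw [← IsScalarTower.algebraMap_apply])
  haveI : FiniteDimensional K L := FiniteDimensional.right F0 K L
  have hFL : IsFF k L := hF.ext
  let k1 : IntermediateField k L := algebraicClosure k L
  have halg : ∀ c : k1, IsAlgebraic k (c : L) := fun c => mem_algebraicClosure_iff.mp c.2
  obtain ⟨R⟩ := hFL.nonempty_place
  haveI : Finite k1 := by
    let ιO : k1 →+* R.O := (algebraMap k1 L).codRestrict R.O.toSubring fun c => by
      show R.1 (c : L) ≤ 1
      by_cases h : (c : L) = 0
      · simp [h]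
      · exact (val_eq_one_of_isAlgebraic R (halg c) h).le
    haveI : Finite (IsLocalRing.ResidueField R.O) := @Module.finite_of_finite k _ _ _ _ _
      (hFL.finiteDimensional_residueField R)
    exact Finite.of_injective _ ((IsLocalRing.residue R.O).comp ιO).injective
  haveI : Module.Finite k k1 := Module.Finite.of_finite
  set xL := algebraMap K L x
  have hxk : Transcendental k xL := (transcendental_algebraMap_iff (algebraMap K L).injective).mpr hx
  have hxL : Transcendental k1 xL := fun h => hxk (h.restrictScalars k)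
  have hle : IntermediateField.adjoin k ({xL} : Set L) ≤
      (IntermediateField.adjoin k1 ({xL} : Set L)).restrictScalars k := by
    rw [IntermediateField.adjoin_simple_le_iff]
    exact IntermediateField.mem_adjoin_simple_self k1 xL
  haveI := hFL.finiteDimensional hxk
  have hL : IsFunctionField k1 L := by
    refine ⟨⟨xL, hxL, ?_⟩, fun y hy => ?_⟩
    · haveI : FiniteDimensional (IntermediateField.extendScalars hle) L :=
        Module.Finite.of_restrictScalars_finite (IntermediateField.adjoin k ({xL} : Set L)) _ _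
      exact this
    · exact ⟨⟨y, mem_algebraicClosure_iff.mpr (hy.restrictScalars k)⟩, rfl⟩
  refine asymp (k1 := k1) (L := L) hK hL hx ?_
  set F1 := IntermediateField.adjoin k1 ({xL} : Set L)
  have hmem : ∀ z : F0, algebraMap F0 L z ∈ F1 := by
    intro z
    have h1 : F0.map (IsScalarTower.toAlgHom k K L) ≤ F1.restrictScalars k := by
      rw [IntermediateField.map_le_iff_le_comap]
      refine IntermediateField.adjoin_simple_le_iff.mpr ?_
      exact IntermediateField.mem_adjoin_simple_self k1 xL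
    have h2 := h1 ⟨(z : K), z.2, rfl⟩
    rw [IsScalarTower.algebraMap_apply F0 K L]
    exact h2
  letI : Algebra F0 F1 := ((algebraMap F0 L).codRestrict F1 hmem).toAlgebra
  haveI : IsScalarTower F0 F1 L := IsScalarTower.of_algebraMap_eq fun _ => rfl
  exact IsGalois.tower_top_of_isGalois F0 F1 L

theorem norm_le_one_of_bounded_powerSums {ι : Type*} [Fintype ι] (β : ι → ℂ) (B : ℝ) (j₀ : ℕ)
    (h : ∀ j ≥ j₀, ‖∑ i, β i ^ j‖ ≤ B) (i₀ : ι) : ‖β i₀‖ ≤ 1 := by
  classical
  set V := (Finset.univ.image β).erase (β i₀)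
  set P : ℂ[X] := ∏ v ∈ V, (X - C v)
  have hP0 : P.eval (β i₀) ≠ 0 := by
    rw [eval_prod]
    exact Finset.prod_ne_zero_iff.mpr fun v hv => by
      simpa [sub_eq_zero] using (Finset.mem_erase.mp hv).1.symm
  set I := Finset.univ.filter fun i => β i = β i₀
  have hI : 1 ≤ I.card := Finset.card_pos.mpr ⟨i₀, by simp [I]⟩
  have key : ∀ j, ∑ t ∈ Finset.range (P.natDegree + 1), P.coeff t * ∑ i, β i ^ (j + t) =
      (I.card : ℂ) * (β i₀ ^ j * P.eval (β i₀)) := by
    intro j
    simp only [Finset.mul_sum]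
    rw [Finset.sum_comm, ← Finset.sum_filter_add_sum_filter_not Finset.univ (fun i => β i = β i₀)]
    have e : ∀ i, ∑ t ∈ Finset.range (P.natDegree + 1), P.coeff t * β i ^ (j + t) =
        β i ^ j * P.eval (β i) := fun i => by
      rw [eval_eq_sum_range, Finset.mul_sum]
      exact Finset.sum_congr rfl fun t _ => by rw [pow_add]; ring
    simp only [e]
    rw [Finset.sum_eq_zero (s := Finset.univ.filter fun i => ¬ β i = β i₀) fun i hi => ?_, add_zero,
      Finset.sum_congr rfl (g := fun _ => β i₀ ^ j * P.eval (β i₀)) fun i hi => by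
        rw [(Finset.mem_filter.mp hi).2], Finset.sum_const, nsmul_eq_mul]
    have hv : β i ∈ V := Finset.mem_erase.mpr
      ⟨(Finset.mem_filter.mp hi).2, Finset.mem_image_of_mem β (Finset.mem_univ i)⟩
    rw [eval_prod, Finset.prod_eq_zero hv (by simp), mul_zero]
  set T : ℝ := ∑ t ∈ Finset.range (P.natDegree + 1), ‖P.coeff t‖ * B
  have hbd : ∀ j ≥ j₀, ‖β i₀‖ ^ j * ‖P.eval (β i₀)‖ ≤ T := by
    intro j hj
    have h1 : ‖(I.card : ℂ) * (β i₀ ^ j * P.eval (β i₀))‖ ≤ T := by
      rw [← key j]
      refine (norm_sum_le _ _).trans (Finset.sum_le_sum fun t _ => ?_)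
      rw [norm_mul]
      exact mul_le_mul_of_nonneg_left (h _ (by omega)) (norm_nonneg _)
    rw [norm_mul, norm_mul, norm_pow, Complex.norm_natCast] at h1
    refine le_trans ?_ h1
    exact le_mul_of_one_le_left (by positivity) (by exact_mod_cast hI)
  by_contra hlt
  rw [not_le] at hlt
  obtain ⟨j, hj⟩ := pow_unbounded_of_one_lt (T / ‖P.eval (β i₀)‖) hlt
  have hpos : 0 < ‖P.eval (β i₀)‖ := norm_pos_iff.mpr hP0
  rw [div_lt_iff₀ hpos] at hj
  have h2 := hbd (j + j₀) (by omega)
  have h3 : ‖β i₀‖ ^ j * ‖P.eval (β i₀)‖ ≤ ‖β i₀‖ ^ (j + j₀) * ‖P.eval (β i₀)‖ :=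
    mul_le_mul_of_nonneg_right (pow_le_pow_right₀ hlt.le (by omega)) hpos.le
  linarith

/-- The Riemann hypothesis: the reciprocal roots have absolute value `√q`. -/
theorem norm_root_eq (hK : IsFunctionField k K) {α : Fin (2 * genus k K) → ℂ}
    (hα : PowerSeries.map (Int.castRingHom ℂ) (numerZ k K) =
      ((∏ i, (1 - C (α i) * X) : ℂ[X]) : PowerSeries ℂ))
    (hrev : ∀ i, α i * α (Fin.rev i) = (Nat.card k : ℂ)) (i : Fin (2 * genus k K)) :
    ‖α i‖ = Real.sqrt (Nat.card k) := by
  obtain ⟨e, Cst, j₀, he, hbound⟩ := exists_asymp hK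
  set q := Nat.card k with hq
  have hq2 : 2 ≤ q := two_le_card hK
  set u : ℂ := (q : ℂ) ^ e with hu
  have hu0 : u ≠ 0 := pow_ne_zero _ (by exact_mod_cast (show q ≠ 0 by omega))
  have hle : ∀ i, ‖α i‖ ≤ Real.sqrt q := by
    intro i
    have h1 : ‖α i ^ (2 * e) / u‖ ≤ 1 := by
      refine norm_le_one_of_bounded_powerSums (fun i => α i ^ (2 * e) / u) ((Cst : ℝ) + 1) (j₀ + 1) ?_ i
      intro j hj
      have hN := Npt_eq hK hα (m := 2 * e * j) (Nat.mul_ne_zero (by omega) (by omega))
      have hb := hbound j (by omega)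
      simp only [div_pow, ← pow_mul]
      rw [← Finset.sum_div, norm_div,
        show ∑ x, α x ^ (2 * e * j) = ((1 + (q : ℤ) ^ (2 * e * j) - (Npt k K (2 * e * j) : ℤ) : ℤ) : ℂ) by
          push_cast
          rw [hN]; ring,
        Complex.norm_intCast, hu, ← pow_mul, norm_pow, Complex.norm_natCast,
        div_le_iff₀ (by positivity)]
      have hR : |((Npt k K (2 * e * j) : ℤ) : ℝ) - ((q : ℤ) : ℝ) ^ (2 * e * j)| ≤
          (Cst : ℝ) * ((q : ℤ) : ℝ) ^ (e * j) := by exact_mod_cast hb
      have h1q : (1 : ℝ) ≤ (q : ℝ) ^ (e * j) := one_le_pow₀ (by exact_mod_cast (show 1 ≤ q by omega))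
      rw [abs_le] at hR ⊢
      push_cast at hR ⊢
      constructor <;> linarith [hR.1, hR.2]
    rw [norm_div, norm_pow, hu, norm_pow, Complex.norm_natCast,
      div_le_one (by positivity)] at h1
    have h2 : ‖α i‖ ^ (2 * e) ≤ Real.sqrt q ^ (2 * e) := by
      rw [pow_mul (Real.sqrt q), Real.sq_sqrt (by positivity)]
      exact h1
    exact (pow_le_pow_iff_left₀ (norm_nonneg _) (Real.sqrt_nonneg _) (by omega)).mp h2
  refine le_antisymm (hle i) ?_
  have h := congrArg (‖·‖) (hrev i)
  simp only [norm_mul, Complex.norm_natCast] at h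
  have hs : Real.sqrt q * Real.sqrt q = q := Real.mul_self_sqrt (by positivity)
  have hpos : 0 < Real.sqrt q := Real.sqrt_pos.mpr (by exact_mod_cast (show 0 < q by omega))
  nlinarith [hle i, hle (Fin.rev i), norm_nonneg (α i)]

theorem norm_sq_mul_card_eq_one (hK : IsFunctionField k K) {p : ℤ[X]}
    (hp : (p : PowerSeries ℤ) = numerZ k K) {z : ℂ} (hz : (p.map (Int.castRingHom ℂ)).IsRoot z) :
    ‖z‖ ^ 2 * (Nat.card k : ℝ) = 1 := by
  obtain ⟨α, -, hα, hrev⟩ := exists_roots_numerZ hK
  have hp' : p.map (Int.castRingHom ℂ) = ∏ i, (1 - C (α i) * X) := by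
    apply Polynomial.coe_inj.mp
    rw [← hα, ← hp, Polynomial.polynomial_map_coe]
  rw [hp', IsRoot, eval_prod, Finset.prod_eq_zero_iff] at hz
  obtain ⟨i, -, hi⟩ := hz
  simp only [eval_sub, eval_one, eval_mul, eval_C, eval_X, sub_eq_zero] at hi
  have h := congrArg (‖·‖) hi
  simp only [norm_one, norm_mul, norm_root_eq hK hα hrev i] at h
  have hs : Real.sqrt (Nat.card k) ^ 2 = (Nat.card k : ℝ) := Real.sq_sqrt (by positivity)
  calc ‖z‖ ^ 2 * (Nat.card k : ℝ) = (Real.sqrt (Nat.card k) * ‖z‖) ^ 2 := by rw [mul_pow, hs]; ring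
    _ = 1 := by rw [← h, one_pow]

theorem abs_card_deg_one_sub_le (hK : IsFunctionField k K) :
    |(Nat.card {P : Place k K // P.deg = 1} : ℝ) - (Nat.card k : ℝ) - 1| ≤
      2 * (genus k K : ℝ) * Real.sqrt (Nat.card k : ℝ) := by
  obtain ⟨α, -, hα, hrev⟩ := exists_roots_numerZ hK
  rw [← Npt_one (IsFF.of_isFunctionField hK)]
  have h := Npt_eq hK hα one_ne_zero
  simp only [pow_one] at h
  rw [← Real.norm_eq_abs, ← Complex.norm_real]
  push_cast
  rw [h, show (1 : ℂ) + (Nat.card k : ℂ) - ∑ i, α i - (Nat.card k : ℂ) - 1 = -∑ i, α i by ring, norm_neg]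
  refine (norm_sum_le _ _).trans_eq ?_
  rw [Finset.sum_congr rfl fun i _ => norm_root_eq hK hα hrev i, Finset.sum_const, Finset.card_univ,
    Fintype.card_fin, nsmul_eq_mul]
  push_cast
  rfl

end Groth.FunFld1
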