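import Groth.Agent.FunFld1.Zeta.GaloisCount
import Groth.Agent.FunFld1.Zeta.Genus
import Mathlib.FieldTheory.PrimitiveElement
import Mathlib.FieldTheory.Galois.Basic

/-!
Asymptotic point count over constant field extensions: `N_r = q^r + O(q^{r/2})`.
-/

set_option linter.style.haveILetI false
set_option linter.unusedSectionVars false

namespace Groth.FunFld1

open WithZero FunFld Polynomial

theorem exists_scaled_integral {k L : Type*} [Field k] [Field L] [Algebra k L] {x z : L}
    (hz : IsIntegral (IntermediateField.adjoin k ({x} : Set L)) z) :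
    ∃ c : k[X], aeval x c ≠ 0 ∧
      (aeval x : k[X] →ₐ[k] L).toRingHom.IsIntegralElem (aeval x c * z) := by
  classical
  set F := IntermediateField.adjoin k ({x} : Set L)
  set m := minpoly F z
  have hfr : ∀ i, ∃ r s : k[X], aeval x s ≠ 0 ∧ (m.coeff i : L) * aeval x s = aeval x r := by
    intro i
    obtain ⟨r, s, h⟩ := (IntermediateField.mem_adjoin_simple_iff k (m.coeff i : L)).mp (m.coeff i).2
    by_cases hs : aeval x s = 0
    · refine ⟨0, 1, by simp, ?_⟩
      rw [h, hs]; simp
    · exact ⟨r, s, hs, by rw [h, div_mul_cancel₀ _ hs]⟩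
  choose r s hs hrs using hfr
  set n := m.natDegree
  set c := ∏ i ∈ Finset.range n, s i with hc
  set lo : k[X][X] := ∑ i ∈ Finset.range n,
    C (r i * (∏ j ∈ (Finset.range n).erase i, s j) * c ^ (n - i - 1)) * X ^ i with hlo
  refine ⟨c, ?_, X ^ n + lo, monic_X_pow_add ?_, ?_⟩
  · rw [hc, map_prod]; exact Finset.prod_ne_zero_iff.mpr fun i _ => hs i
  · rw [degree_lt_iff_coeff_zero]
    intro i hi
    rw [hlo, finsetSum_coeff]
    refine Finset.sum_eq_zero fun j hj => ?_
    rw [coeff_C_mul_X_pow, if_neg]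
    have := Finset.mem_range.mp hj
    omega
  · have h0 : z ^ n + ∑ i ∈ Finset.range n, (m.coeff i : L) * z ^ i = 0 := by
      have h := minpoly.aeval F z
      rw [aeval_eq_sum_range, Finset.sum_range_succ, (minpoly.monic hz).coeff_natDegree, one_smul,
        add_comm] at h
      exact h
    have key : ∀ i ∈ Finset.range n,
        aeval x (r i * (∏ j ∈ (Finset.range n).erase i, s j) * c ^ (n - i - 1)) * (aeval x c * z) ^ i =
          aeval x c ^ n * ((m.coeff i : L) * z ^ i) := by
      intro i hi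
      have hi' := Finset.mem_range.mp hi
      have e : aeval x c = aeval x (s i) * aeval x (∏ j ∈ (Finset.range n).erase i, s j) := by
        rw [← map_mul, Finset.mul_prod_erase _ _ hi]
      rw [map_mul, map_mul, map_pow, ← hrs i, mul_pow,
        show aeval x c ^ n = aeval x c * aeval x c ^ (n - i - 1) * aeval x c ^ i by
          rw [← pow_succ', ← pow_add]; congr 1; omega]
      rw [e]; ring
    rw [eval₂_add, eval₂_pow, eval₂_X, hlo, eval₂_finsetSum]
    simp only [eval₂_mul, eval₂_C, eval₂_pow, eval₂_X, AlgHom.toRingHom_eq_coe, RingHom.coe_coe]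
    rw [Finset.sum_congr rfl key, mul_pow, ← Finset.mul_sum, ← mul_add, h0, mul_zero]

theorem exists_monic_coeff_zero_ne {R L : Type*} [CommRing R] [Nontrivial R] [CommRing L] [IsDomain L]
    (φ : R →+* L) {z : L} (hz : z ≠ 0) (hint : φ.IsIntegralElem z) :
    ∃ p : R[X], p.Monic ∧ p.coeff 0 ≠ 0 ∧ p.eval₂ φ z = 0 := by
  have key : ∀ (n : ℕ) (p : R[X]), p.natDegree ≤ n → p.Monic → p.eval₂ φ z = 0 →
      ∃ p' : R[X], p'.Monic ∧ p'.coeff 0 ≠ 0 ∧ p'.eval₂ φ z = 0 := by
    intro n
    induction n with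
    | zero =>
      intro p hn hm h0
      rw [(hm.natDegree_eq_zero).mp (Nat.le_zero.mp hn)] at h0
      simp at h0
    | succ n ih =>
      intro p hn hm h0
      by_cases hc : p.coeff 0 = 0
      · have hne : p.natDegree ≠ 0 := fun h => by
          have := hm.coeff_natDegree
          rw [h, hc] at this
          exact zero_ne_one this
        have hp : p = X * p.divX := by
          conv_lhs => rw [← X_mul_divX_add p, hc, map_zero, add_zero]
        refine ih p.divX ?_ ?_ ?_
        · rw [natDegree_divX_eq_natDegree_tsub_one]; omega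
        · rw [Monic, leadingCoeff, natDegree_divX_eq_natDegree_tsub_one, coeff_divX,
            Nat.sub_add_cancel (Nat.one_le_iff_ne_zero.mpr hne)]
          exact hm
        · rw [hp, eval₂_mul, eval₂_X] at h0
          exact (mul_eq_zero.mp h0).resolve_left hz
      · exact ⟨p, hm, hc, h0⟩
  obtain ⟨p, hm, h0⟩ := hint
  exact key p.natDegree p le_rfl hm h0

theorem val_eval₂_le_one {k L R : Type*} [Field k] [Field L] [Algebra k L] [CommRing R] (P : Place k L)
    (φ : R →+* L) (hφ : ∀ r, P.1 (φ r) ≤ 1) {z : L} (hz : P.1 z ≤ 1) (p : R[X]) :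
    P.1 (p.eval₂ φ z) ≤ 1 := by
  rw [eval₂_eq_sum_range]
  refine Valuation.map_sum_le _ fun i _ => ?_
  rw [map_mul, map_pow]
  exact mul_le_one' (hφ _) (pow_le_one₀ zero_le hz)

theorem val_le_one_of_integralElem {k L R : Type*} [Field k] [Field L] [Algebra k L] [CommRing R]
    [Nontrivial R] (P : Place k L) (φ : R →+* L) (hφ : ∀ r, P.1 (φ r) ≤ 1) {z : L}
    (hint : φ.IsIntegralElem z) : P.1 z ≤ 1 := by
  obtain ⟨p, hm, h0⟩ := hint
  by_contra hlt
  rw [not_le] at hlt
  rcases Nat.eq_zero_or_pos p.natDegree with hn | hn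
  · rw [hm.natDegree_eq_zero.mp hn] at h0
    simp at h0
  obtain ⟨m, hm'⟩ : ∃ m, p.natDegree = m + 1 := ⟨p.natDegree - 1, by omega⟩
  rw [eval₂_eq_sum_range, hm', Finset.sum_range_succ, ← hm', hm.coeff_natDegree, map_one, one_mul,
    hm', add_comm] at h0
  have h1 : P.1 (z ^ (m + 1)) ≤ P.1 z ^ m := by
    rw [eq_neg_of_add_eq_zero_left h0, Valuation.map_neg]
    refine Valuation.map_sum_le _ fun i hi => ?_
    rw [map_mul, map_pow]
    exact (mul_le_of_le_one_left' (hφ _)).trans
      (pow_le_pow_right₀ hlt.le (Nat.lt_succ_iff.mp (Finset.mem_range.mp hi)))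
  rw [map_pow, pow_succ] at h1
  refine absurd h1 (not_le.mpr ?_)
  exact lt_mul_of_one_lt_right (pow_pos (lt_trans zero_lt_one hlt) m) hlt

variable {k K k1 L : Type*} [Field k] [Field K] [Field k1] [Field L] [Finite k] [Finite k1]
  [Algebra k K] [Algebra k k1] [Algebra k1 L] [Algebra K L] [Algebra k L]
  [IsScalarTower k K L] [IsScalarTower k k1 L]

set_option maxHeartbeats 2000000 in
theorem asymp (hK : IsFunctionField k K) (hL : IsFunctionField k1 L) {x : K} (hx : Transcendental k x)
    (hgal : IsGalois (IntermediateField.adjoin k1 ({algebraMap K L x} : Set L)) L) :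
    ∃ (e : ℕ) (Cst : ℤ) (j₀ : ℕ), 0 < e ∧ ∀ j ≥ j₀,
      |(Npt k K (2 * e * j) : ℤ) - (Nat.card k : ℤ) ^ (2 * e * j)| ≤ Cst * (Nat.card k : ℤ) ^ (e * j) := by
  classical
  haveI : Module.Finite k k1 := Module.Finite.of_finite
  have hFL := IsFF.of_isFunctionField hL
  set xL := algebraMap K L x with hxLdef
  have hxL : Transcendental k1 xL := fun halg =>
    ((transcendental_algebraMap_iff (algebraMap K L).injective).mpr hx) (halg.restrictScalars k)
  haveI := hFL.finiteDimensional hxL
  haveI := hgal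
  set F0 := IntermediateField.adjoin k1 ({xL} : Set L) with hF0
  obtain ⟨θ0, hθ0⟩ := Field.exists_primitive_element F0 L
  obtain ⟨c, hc0, hcint⟩ := exists_scaled_integral (k := k1) (x := xL) (z := θ0) (IsIntegral.of_finite _ _)
  set θ := aeval xL c * θ0 with hθdef
  set φ : k1[X] →+* L := (aeval xL : k1[X] →ₐ[k1] L).toRingHom with hφdef
  have hcF : aeval xL c ∈ F0 :=
    (IntermediateField.algebra_adjoin_le_adjoin k1 ({xL} : Set L)) (aeval_mem_adjoin_singleton k1 xL)
  have hθtop : IntermediateField.adjoin F0 ({θ} : Set L) = ⊤ := by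
    rw [← top_le_iff, ← hθ0, IntermediateField.adjoin_simple_le_iff]
    have h1 : θ ∈ IntermediateField.adjoin F0 ({θ} : Set L) := IntermediateField.mem_adjoin_simple_self _ θ
    have h2 := IntermediateField.smul_mem _ h1 (x := (⟨aeval xL c, hcF⟩ : F0)⁻¹)
    rwa [show ((⟨aeval xL c, hcF⟩ : F0)⁻¹ • θ) = θ0 by
      rw [IntermediateField.smul_def, IntermediateField.coe_inv, hθdef, smul_eq_mul,
        inv_mul_cancel_left₀ hc0]] at h2
  have hθadj : Algebra.adjoin F0 ({θ} : Set L) = ⊤ := by
    rw [← IntermediateField.adjoin_simple_toSubalgebra_of_isAlgebraic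
      (Algebra.IsAlgebraic.isAlgebraic θ), hθtop, IntermediateField.top_toSubalgebra]
  have hGinj : ∀ σ τ : L ≃ₐ[F0] L, σ θ = τ θ → σ = τ := fun σ τ h => by
    have := AlgHom.ext_of_adjoin_eq_top (φ₁ := σ.toAlgHom) (φ₂ := τ.toAlgHom) hθadj
      (fun z hz => by rw [Set.mem_singleton_iff.mp hz]; exact h)
    exact AlgEquiv.ext fun z => DFunLike.congr_fun this z
  have hfix : ∀ (σ : L ≃ₐ[F0] L) (q : k1[X]), σ (φ q) = φ q := fun σ q =>
    σ.commutes (⟨aeval xL q, (IntermediateField.algebra_adjoin_le_adjoin k1 ({xL} : Set L))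
      (aeval_mem_adjoin_singleton k1 xL)⟩ : F0)
  have hconj : ∀ σ : L ≃ₐ[F0] L, φ.IsIntegralElem (σ θ) := by
    obtain ⟨H, hH, hH0⟩ := hcint
    intro σ
    refine ⟨H, hH, ?_⟩
    have := congrArg (σ : L →+* L) hH0
    rw [hom_eval₂, map_zero] at this
    rw [show (σ : L →+* L).comp φ = φ from RingHom.ext fun q => hfix σ q] at this
    exact this
  set Δ := ∏ σ : L ≃ₐ[F0] L, ∏ τ ∈ Finset.univ.erase σ, (σ θ - τ θ) with hΔ
  have hΔ0 : Δ ≠ 0 := Finset.prod_ne_zero_iff.mpr fun σ _ => Finset.prod_ne_zero_iff.mpr fun τ hτ =>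
    sub_ne_zero.mpr fun h => (Finset.mem_erase.mp hτ).1 (hGinj σ τ h).symm
  have hΔint : φ.IsIntegralElem Δ :=
    Finset.prod_induction _ φ.IsIntegralElem (fun _ _ => RingHom.IsIntegralElem.mul φ) φ.isIntegralElem_one
      fun σ _ => Finset.prod_induction _ φ.IsIntegralElem (fun _ _ => RingHom.IsIntegralElem.mul φ)
        φ.isIntegralElem_one fun τ _ => RingHom.IsIntegralElem.sub φ (hconj σ) (hconj τ)
  obtain ⟨p, hpm, hp0, hpΔ⟩ := exists_monic_coeff_zero_ne φ hΔ0 hΔint
  set n := Module.finrank F0 L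
  set b := (p.coeff 0).natDegree
  obtain ⟨R0⟩ := hFL.nonempty_place
  set d0 := R0.deg with hd0def
  have hd0 : 0 < d0 := hFL.deg_pos R0
  set M := Module.finrank k k1
  have hM : 0 < M := Module.finrank_pos
  set gL := genus k1 L
  set gK := genus k K
  refine ⟨M * d0, (n : ℤ) * b + (n : ℤ) * (2 * gL + 1) + (2 * gK + 1),
    (gL + 1) ^ 2 + (gK + 1) ^ 2 + 1, Nat.mul_pos hM hd0, fun j hj => ?_⟩
  set t := 2 * d0 * j with ht
  have ht0 : t ≠ 0 := by rw [ht]; exact Nat.mul_ne_zero (Nat.mul_ne_zero two_ne_zero hd0.ne') (by omega)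
  obtain ⟨k', _, _, _, E, _, htow, hgenE, hrk⟩ := exists_constExt_field k1 L t ht0
  letI : Algebra k k' := ((algebraMap k1 k').comp (algebraMap k k1)).toAlgebra
  haveI : IsScalarTower k k1 k' := IsScalarTower.of_algebraMap_eq fun _ => rfl
  haveI : IsScalarTower k1 k' E := htow
  haveI : Module.Finite k1 k' := Module.Finite.of_finite
  letI : Algebra K E := ((algebraMap L E).comp (algebraMap K L)).toAlgebra
  haveI : IsScalarTower K L E := IsScalarTower.of_algebraMap_eq fun _ => rfl
  haveI : IsScalarTower k K E := IsScalarTower.of_algebraMap_eq fun a => by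
    rw [IsScalarTower.algebraMap_apply k L E, IsScalarTower.algebraMap_apply k K L]
    rfl
  haveI : IsScalarTower k k' E := IsScalarTower.of_algebraMap_eq fun a => by
    rw [IsScalarTower.algebraMap_apply k L E, IsScalarTower.algebraMap_apply k k1 L,
      ← IsScalarTower.algebraMap_apply k1 L E, IsScalarTower.algebraMap_apply k1 k' E]
    rfl
  have hrkk : Module.finrank k k' = 2 * (M * d0) * j := by
    rw [← Module.finrank_mul_finrank k k1 k', hrk, ht]; ring
  set q := Nat.card k with hq
  have hcard' : Nat.card k' = (q ^ (M * d0 * j)) ^ 2 := by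
    haveI : Module.Finite k k' := Module.Finite.of_finite
    rw [Module.natCard_eq_pow_finrank (K := k) (V := k'), hrkk, ← pow_mul]; congr 1; ring
  set s := q ^ (M * d0 * j) with hsdef
  have hE := isFunctionField_constExt k' hgenE hL
  have hFE := IsFF.of_isFunctionField hE
  have hgE : genus k' E = gL := genus_constExt hgenE hL
  have hjs : j < s := by
    refine lt_of_lt_of_le (lt_of_le_of_lt (Nat.le_mul_of_pos_left j (Nat.mul_pos hM hd0))
      Nat.lt_two_pow_self) ?_
    exact Nat.pow_le_pow_left (two_le_card hK) _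
  -- a rational place
  obtain ⟨Q, hQ⟩ : ∃ Q : Place k' E, Q.deg = 1 := by
    by_contra! hno
    have h1 : Npt k' E 1 = 0 := by
      rw [Npt, finsum_mem_eq_finite_toFinset_sum _ (finite_places_dvd hFE one_ne_zero)]
      refine Finset.sum_eq_zero fun P hP => ?_
      exact absurd (Nat.dvd_one.mp ((finite_places_dvd hFE one_ne_zero).mem_toFinset.mp hP)) (hno P)
    rw [Npt_constExt hgenE hL one_ne_zero, mul_one, hrk, Npt,
      finsum_mem_eq_finite_toFinset_sum _ (finite_places_dvd hFL ht0), Finset.sum_eq_zero_iff] at h1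
    have := h1 R0 ((finite_places_dvd hFL ht0).mem_toFinset.mpr (Dvd.intro (2 * j) (by rw [ht, hd0def]; ring)))
    omega
  -- the constant extension of `K`
  let K' : IntermediateField K E := IntermediateField.adjoin K (Set.range (algebraMap k' E))
  let ιK : k' →+* K' := (algebraMap k' E).codRestrict K' fun a => IntermediateField.subset_adjoin K _ ⟨a, rfl⟩
  letI : Algebra k' K' := ιK.toAlgebra
  haveI : IsScalarTower k' K' E := IsScalarTower.of_algebraMap_eq fun _ => rfl
  haveI : IsScalarTower k k' K' := IsScalarTower.of_algebraMap_eq fun a => Subtype.ext (by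
    show algebraMap k E a = algebraMap k' E (algebraMap k k' a)
    rw [← IsScalarTower.algebraMap_apply])
  have hgen : Algebra.adjoin K (Set.range (algebraMap k' K')) = ⊤ := by
    refine eq_top_iff.mpr fun z _ => ?_
    haveI : Module.Finite k k' := Module.Finite.of_finite
    have halg : ∀ y ∈ Set.range (algebraMap k' E), IsAlgebraic K y := by
      rintro _ ⟨a, rfl⟩
      exact (((IsIntegral.of_finite k a).map (IsScalarTower.toAlgHom k k' E)).tower_top).isAlgebraic
    have hz : z.1 ∈ Algebra.adjoin K (Set.range (algebraMap k' E)) := by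
      rw [← IntermediateField.adjoin_toSubalgebra_of_isAlgebraic halg]
      exact z.2
    have hmap : (Algebra.adjoin K (Set.range (algebraMap k' K'))).map K'.val =
        Algebra.adjoin K (Set.range (algebraMap k' E)) := by
      rw [AlgHom.map_adjoin, ← Set.range_comp]
      rfl
    rw [← hmap, Subalgebra.mem_map] at hz
    obtain ⟨w, hw, hwz⟩ := hz
    rwa [← Subtype.ext hwz]
  have hK' := isFunctionField_constExt k' hgen hK
  have hgK : genus k' K' = gK := genus_constExt hgen hK
  have hNK : Npt k' K' 1 = Npt k K (2 * (M * d0) * j) := by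
    rw [Npt_constExt hgen hK one_ne_zero, mul_one, hrkk]
  -- the rational base field
  set x' : E := algebraMap L E xL with hx'def
  have hx' : Transcendental k' x' := fun halg => by
    haveI : Module.Finite k k' := Module.Finite.of_finite
    exact ((transcendental_algebraMap_iff (algebraMap K E).injective).mpr hx) (halg.restrictScalars k)
  haveI := hFE.finiteDimensional hx'
  set F' := IntermediateField.adjoin k' ({x'} : Set E) with hF'def
  have hFK' : ∀ z : F', (z : E) ∈ K' := by
    intro z
    have h1 : F' ≤ K'.toSubfield.toIntermediateField (fun a => IntermediateField.subset_adjoin K _ ⟨a, rfl⟩) := by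
      rw [hF'def, IntermediateField.adjoin_simple_le_iff]
      exact K'.algebraMap_mem x
    exact h1 z.2
  letI : Algebra F' K' := ((algebraMap F' E).codRestrict K' hFK').toAlgebra
  haveI : IsScalarTower F' K' E := IsScalarTower.of_algebraMap_eq fun _ => rfl
  haveI : IsScalarTower k' F' K' := IsScalarTower.of_algebraMap_eq fun _ => rfl
  have hF0F' : ∀ z : F0, algebraMap L E z ∈ F' := by
    intro z
    have h1 : F0.map (IsScalarTower.toAlgHom k1 L E) ≤ F'.restrictScalars k1 := by
      rw [hF0, IntermediateField.adjoin_map, Set.image_singleton, IntermediateField.adjoin_simple_le_iff]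
      exact IntermediateField.mem_adjoin_simple_self k' x'
    exact h1 ⟨z, z.2, rfl⟩
  let ψ : F0 →+* F' := ((algebraMap L E).comp (algebraMap F0 L)).codRestrict F' hF0F'
  have hψ : (algebraMap F' E).comp ψ = (algebraMap L E).comp (algebraMap F0 L) := rfl
  set θ' := algebraMap L E θ with hθ'def
  set h' := (minpoly F0 θ).map ψ with hh'
  have hθi : IsIntegral F0 θ := IsIntegral.of_finite F0 θ
  have hadjE : Algebra.adjoin F' ({θ'} : Set E) = ⊤ := by
    refine eq_top_iff.mpr fun z _ => ?_
    have hz : z ∈ Algebra.adjoin L (Set.range (algebraMap k' E)) := hgenE ▸ Algebra.mem_top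
    induction hz using Algebra.adjoin_induction with
    | mem w hw =>
      obtain ⟨a, rfl⟩ := hw
      exact Subalgebra.algebraMap_mem _ (algebraMap k' F' a)
    | algebraMap l =>
      have hl : l ∈ Algebra.adjoin F0 ({θ} : Set L) := hθadj ▸ Algebra.mem_top
      rw [Algebra.adjoin_singleton_eq_range_aeval] at hl ⊢
      obtain ⟨u, rfl⟩ := hl
      refine ⟨u.map ψ, ?_⟩
      show aeval θ' (u.map ψ) = algebraMap L E (aeval θ u)
      rw [aeval_def, eval₂_map, hψ, aeval_def, hom_eval₂]
    | add u v _ _ hu hv => exact add_mem (hu trivial) (hv trivial)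
    | mul u v _ _ hu hv => exact mul_mem (hu trivial) (hv trivial)
  have hsplit : (h'.map (algebraMap F' E)).Splits := by
    rw [hh', map_map, hψ, ← map_map]
    exact (Normal.splits (inferInstance : Normal F0 L) θ).map _
  haveI : IsSplittingField F' E h' := by
    refine ⟨hsplit, eq_top_iff.mpr (hadjE.symm.le.trans (Algebra.adjoin_mono ?_))⟩
    rw [Set.singleton_subset_iff, mem_rootSet]
    refine ⟨Polynomial.map_ne_zero (minpoly.ne_zero hθi), ?_⟩
    rw [aeval_def, hh', eval₂_map, hψ, ← hom_eval₂, ← aeval_def, minpoly.aeval, map_zero]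
  haveI : IsGalois F' E := IsGalois.of_separable_splitting_field (p := h')
    (Polynomial.Separable.map (Algebra.IsSeparable.isSeparable F0 θ))
  have hrootsL : (((minpoly F0 θ).map (algebraMap F0 L)).roots).toFinset =
      (Finset.univ : Finset (L ≃ₐ[F0] L)).image fun τ => τ θ := by
    refine (Finset.eq_of_subset_of_card_le ?_ ?_).symm
    · intro w hw
      obtain ⟨τ, -, rfl⟩ := Finset.mem_image.mp hw
      rw [Multiset.mem_toFinset, mem_roots (Polynomial.map_ne_zero (minpoly.ne_zero hθi)), IsRoot,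
        eval_map_algebraMap, show τ θ = τ.toAlgHom θ from rfl, aeval_algHom_apply, minpoly.aeval, map_zero]
    · rw [Finset.card_image_of_injective _ fun a b h => hGinj a b h, Finset.card_univ,
        ← Nat.card_eq_fintype_card, IsGalois.card_aut_eq_finrank]
      refine (Multiset.toFinset_card_le _).trans ((card_roots' _).trans ?_)
      rw [natDegree_map]
      exact minpoly.natDegree_le θ
  have hGal : ∀ σ : E ≃ₐ[F'] E, ∃ τ : L ≃ₐ[F0] L, σ θ' = algebraMap L E (τ θ) := by
    intro σ
    have h1 : σ θ' ∈ (h'.map (algebraMap F' E)).roots := by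
      have hne : h'.map (algebraMap F' E) ≠ 0 :=
        Polynomial.map_ne_zero (Polynomial.map_ne_zero (minpoly.ne_zero hθi))
      rw [mem_roots hne, IsRoot, eval_map_algebraMap, show σ θ' = σ.toAlgHom θ' from rfl, aeval_algHom_apply,
        aeval_def, hh', eval₂_map, hψ, ← hom_eval₂, ← aeval_def, minpoly.aeval, map_zero, map_zero]
    rw [hh', map_map, hψ, ← map_map, (Normal.splits (inferInstance : Normal F0 L) θ).roots_map,
      Multiset.mem_map] at h1
    obtain ⟨w, hw, hwe⟩ := h1
    rw [← Multiset.mem_toFinset, hrootsL] at hw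
    obtain ⟨τ, -, rfl⟩ := Finset.mem_image.mp hw
    exact ⟨τ, hwe.symm⟩
  choose τf hτf using hGal
  have hτinj : Function.Injective τf := fun σ σ' h => by
    have heq : σ θ' = σ' θ' := by rw [hτf, hτf, h]
    have := AlgHom.ext_of_adjoin_eq_top (φ₁ := σ.toAlgHom) (φ₂ := σ'.toAlgHom) hadjE
      (fun z hz => by rw [Set.mem_singleton_iff.mp hz]; exact heq)
    exact AlgEquiv.ext fun z => DFunLike.congr_fun this z
  have hm : Module.finrank F' E ≤ n := by
    have := Nat.card_le_card_of_injective _ hτinj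
    rwa [IsGalois.card_aut_eq_finrank, IsGalois.card_aut_eq_finrank] at this
  -- places of `F'` with `x = a`
  set xF : F' := ⟨x', IntermediateField.mem_adjoin_simple_self k' x'⟩
  have hxF : Transcendental k' xF := (transcendental_algebraMap_iff (algebraMap F' E).injective).mp hx'
  have hFtop : IntermediateField.adjoin k' ({xF} : Set F') = ⊤ := by
    apply IntermediateField.map_injective F'.val
    rw [IntermediateField.adjoin_map, Set.image_singleton, ← AlgHom.fieldRange_eq_map,
      IntermediateField.fieldRange_val]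
    rfl
  have hFF : IsFF k' F' := ⟨xF, hxF, by
    rw [hFtop]
    exact Module.finite_of_finrank_pos (by rw [IntermediateField.finrank_top]; exact one_pos)⟩
  have hPa : ∀ a : k', ∃ P : Place k' F', P.1 (xF - algebraMap k' F' a) < 1 ∧ P.deg = 1 := by
    intro a
    set y := xF - algebraMap k' F' a with hy
    have hyT : Transcendental k' y := fun halg => hxF (by
      have := halg.isIntegral.add (isIntegral_algebraMap (A := F') (x := a))
      rw [hy, sub_add_cancel] at this
      exact this.isAlgebraic)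
    obtain ⟨P, hP⟩ := hFF.exists_zero_place hyT
    refine ⟨P, hP, ?_⟩
    have hy0 : y ≠ 0 := fun h => hyT (h ▸ isAlgebraic_zero)
    have htop : IntermediateField.adjoin k' ({y} : Set F') = ⊤ := by
      rw [← top_le_iff, ← hFtop, IntermediateField.adjoin_simple_le_iff]
      have h2 := add_mem (IntermediateField.mem_adjoin_simple_self k' y)
        ((IntermediateField.adjoin k' ({y} : Set F')).algebraMap_mem a)
      rwa [hy, sub_add_cancel] at h2
    have hb := hFF.sum_ord_mul_deg_le hyT {P} (fun R hR => by rw [Finset.mem_singleton.mp hR]; exact hP)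
    rw [Finset.sum_singleton, htop, IntermediateField.finrank_top] at hb
    have h1 : 0 < P.ord y := (ord_pos_iff P y).mpr ⟨hy0, hP⟩
    have h2 := hFF.deg_pos P
    have h3 : 1 ≤ (P.ord y).toNat := by omega
    have h4 : P.deg ≤ (P.ord y).toNat * P.deg := Nat.le_mul_of_pos_left _ h3
    omega
  choose Pa hPa1 hPad using hPa
  letI := Fintype.ofFinite k'
  set p0' := (p.coeff 0).map (algebraMap k1 k') with hp0'
  have hp0'0 : p0' ≠ 0 := Polynomial.map_ne_zero hp0
  set good := (Finset.univ : Finset k').filter fun a => p0'.eval a ≠ 0 with hgood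
  set S := good.image Pa with hS
  have hPainj : Function.Injective Pa := by
    intro a a' h
    by_contra hne
    have h1 := hPa1 a
    have h2 := hPa1 a'
    rw [← h] at h2
    have h3 := ((Pa a).1.map_sub _ _).trans_lt (max_lt h1 h2)
    rw [sub_sub_sub_cancel_left, ← map_sub, val_algebraMap (Pa a) (sub_ne_zero.mpr (Ne.symm hne))] at h3
    exact lt_irrefl _ h3
  have hScard : Nat.card k' ≤ S.card + b := by
    rw [hS, Finset.card_image_of_injective _ hPainj, hgood, Nat.card_eq_fintype_card, ← Finset.card_univ]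
    have h1 := Finset.card_filter_add_card_filter_not (s := (Finset.univ : Finset k'))
      (fun a => p0'.eval a ≠ 0)
    have h2 : ((Finset.univ : Finset k').filter fun a => ¬ p0'.eval a ≠ 0).card ≤ b := by
      refine (Finset.card_le_card (t := p0'.roots.toFinset) fun a ha => ?_).trans
        ((Multiset.toFinset_card_le _).trans ((card_roots' _).trans natDegree_map_le))
      rw [Multiset.mem_toFinset, mem_roots hp0'0]
      simpa using (Finset.mem_filter.mp ha).2
    omega
  have hsep : ∀ P ∈ S, ∀ R : Place k' E, IsOver R P → (∀ σ : E ≃ₐ[F'] E, R.1 (σ θ') ≤ 1) ∧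
      ∀ σ τ : E ≃ₐ[F'] E, σ ≠ τ → ¬ R.1 (σ θ' - τ θ') < 1 := by
    intro P hP R hRP
    obtain ⟨a, ha, rfl⟩ := Finset.mem_image.mp hP
    have hya : R.1 (x' - algebraMap k' E a) < 1 := (over_lt_one_iff hRP _).mpr (hPa1 a)
    have hxR : R.1 x' ≤ 1 := by
      rw [show x' = (x' - algebraMap k' E a) + algebraMap k' E a by ring]
      exact Valuation.map_add_le _ hya.le (R.2.1 a)
    set Ψ : k1[X] →+* E := (algebraMap L E).comp φ with hΨ
    have hΨeq : ∀ u : k1[X], Ψ u = aeval x' (u.map (algebraMap k1 k')) := fun u => by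
      show algebraMap L E (aeval xL u) = _
      rw [aeval_map_algebraMap, hx'def, aeval_algebraMap_apply E xL]
    have hpoly : ∀ v : k'[X], R.1 (aeval x' v) ≤ 1 := fun v =>
      val_eval₂_le_one R (algebraMap k' E) R.2.1 hxR v
    have hΨle : ∀ u, R.1 (Ψ u) ≤ 1 := fun u => by rw [hΨeq]; exact hpoly _
    have hτle : ∀ τ : L ≃ₐ[F0] L, R.1 (algebraMap L E (τ θ)) ≤ 1 := fun τ => by
      obtain ⟨H, hH, hH0⟩ := hconj τ
      refine val_le_one_of_integralElem R Ψ hΨle ⟨H, hH, ?_⟩
      rw [hΨ, ← hom_eval₂, hH0, map_zero]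
    refine ⟨fun σ => by rw [hτf]; exact hτle _, fun σ σ' hne hlt => ?_⟩
    rw [hτf, hτf, ← map_sub] at hlt
    set t₁ := τf σ
    set t₂ := τf σ'
    have hne' : t₁ ≠ t₂ := fun h => hne (hτinj h)
    have hfac : ∀ u v : L ≃ₐ[F0] L, R.1 (algebraMap L E (u θ - v θ)) ≤ 1 := fun u v => by
      rw [map_sub]; exact Valuation.map_sub_le _ (hτle u) (hτle v)
    have hΔlt : R.1 (algebraMap L E Δ) < 1 := by
      rw [hΔ, map_prod, map_prod, ← Finset.mul_prod_erase _ _ (Finset.mem_univ t₁)]
      refine (mul_le_of_le_one_right' (Finset.prod_le_one' fun u _ => ?_)).trans_lt ?_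
      · rw [map_prod, map_prod]
        exact Finset.prod_le_one' fun v _ => hfac u v
      · rw [map_prod, map_prod, ← Finset.mul_prod_erase _ _
          (Finset.mem_erase.mpr ⟨hne'.symm, Finset.mem_univ t₂⟩)]
        exact (mul_le_of_le_one_right' (Finset.prod_le_one' fun v _ => hfac t₁ v)).trans_lt hlt
    have hΔ' : p.eval₂ Ψ (algebraMap L E Δ) = 0 := by rw [hΨ, ← hom_eval₂, hpΔ, map_zero]
    rw [← X_mul_divX_add p, eval₂_add, eval₂_mul, eval₂_X, eval₂_C] at hΔ'
    have hp0lt : R.1 (aeval x' p0') < 1 := by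
      rw [hp0', ← hΨeq, eq_neg_of_add_eq_zero_right hΔ', Valuation.map_neg, map_mul]
      exact (mul_le_of_le_one_right' (val_eval₂_le_one R Ψ hΨle hΔlt.le _)).trans_lt hΔlt
    obtain ⟨g, hg⟩ := X_sub_C_dvd_sub_C_eval (a := a) (p := p0')
    have hg' := congrArg (fun u => R.1 (aeval x' p0' - u)) (congrArg (aeval x') hg)
    simp only [map_mul, map_sub, aeval_X, aeval_C, sub_sub_cancel] at hg'
    have hconst : R.1 (algebraMap k' E (p0'.eval a)) < 1 := by
      rw [hg']
      refine (Valuation.map_sub _ _ _).trans_lt (max_lt hp0lt ?_)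
      rw [map_mul]
      exact (mul_le_of_le_one_right' (hpoly g)).trans_lt hya
    rw [val_algebraMap R (Finset.mem_filter.mp ha).2] at hconst
    exact lt_irrefl _ hconst
  -- conclusion
  have hbigL : (genus k' E + 1) ^ 2 < s := by rw [hgE]; omega
  have hbigK : (genus k' K' + 1) ^ 2 < s := by rw [hgK]; omega
  have hlow := galois_count (K := K') hFF hE hcard' hbigL hQ S
    (fun P hP => by obtain ⟨a, -, rfl⟩ := Finset.mem_image.mp hP; exact hPad a) hsep
  have hup := card_deg_one_le hK' hcard' hbigK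
  rw [hgE, hNK] at hlow
  rw [hgK, hNK] at hup
  have hqZ : ((Nat.card k' : ℕ) : ℤ) = (q : ℤ) ^ (2 * (M * d0) * j) := by
    rw [hcard', Nat.cast_pow, hsdef, Nat.cast_pow, ← pow_mul]; congr 1; ring
  rw [show (q : ℤ) ^ (M * d0 * j) = (s : ℤ) by rw [hsdef]; push_cast; rfl, ← hqZ]
  have hm1 : (1 : ℤ) ≤ Module.finrank F' E := by exact_mod_cast Module.finrank_pos
  have hm2 : (Module.finrank F' E : ℤ) ≤ n := by exact_mod_cast hm
  have hS' : (Nat.card k' : ℤ) ≤ S.card + b := by exact_mod_cast hScard
  have hs1 : (1 : ℤ) ≤ s := by exact_mod_cast (show 1 ≤ s by omega)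
  generalize (Module.finrank F' E : ℤ) = m at hlow hm1 hm2
  generalize ((Nat.card k' : ℕ) : ℤ) = Q' at hlow hup hS' ⊢
  have a1 : (0 : ℤ) ≤ (2 * gL + 1 : ℤ) * s := by positivity
  have a2 := mul_le_mul_of_nonneg_left hS' (show 0 ≤ m by linarith)
  have a3 := mul_le_mul_of_nonneg_right (show m - 1 ≤ n by linarith) a1
  have a4 := mul_le_mul_of_nonneg_right hm2 (show (0 : ℤ) ≤ b by positivity)
  have a5 := le_mul_of_one_le_right (show (0 : ℤ) ≤ (n : ℤ) * b by positivity) hs1
  have a6 : (0 : ℤ) ≤ (2 * gK + 1 : ℤ) * s := by positivity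
  have a7 := mul_nonneg (show (0 : ℤ) ≤ (n : ℤ) by positivity) a1
  have a8 : (0 : ℤ) ≤ (n : ℤ) * b * s := by positivity
  rw [abs_le]
  constructor <;> linarith

end Groth.FunFld1
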