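import Groth.Agent.FunFld1.Zeta.Numer
import Mathlib.Algebra.Polynomial.Reverse
import Mathlib.Analysis.Complex.Polynomial.Basic

/-!
Reciprocal roots of the numerator of the zeta series.
-/

set_option linter.style.haveILetI false
set_option linter.unusedSectionVars false

namespace Groth.FunFld1

open Polynomial

theorem exists_pairing (q : ℂ) (hq : q ≠ 0) : ∀ (g : ℕ) (M : Multiset ℂ), M.card = 2 * g →
    M.map (fun a => q / a) = M → M.prod = q ^ g →
    ∃ f : Fin (2 * g) → ℂ, (Finset.univ.val.map f) = M ∧ ∀ i, f i * f (Fin.rev i) = q := by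
  intro g
  induction g with
  | zero =>
    intro M hM _ _
    exact ⟨fun i => i.elim0, by simpa using (Multiset.card_eq_zero.mp hM).symm, fun i => i.elim0⟩
  | succ g ih =>
    intro M hM hinv hprod
    classical
    have h0 : ∀ a ∈ M, a ≠ 0 := by
      rintro a ha rfl
      rw [Multiset.prod_eq_zero ha] at hprod
      exact pow_ne_zero _ hq hprod.symm
    have hqa : ∀ a ∈ M, q / a ∈ M := fun a ha => hinv ▸ Multiset.mem_map_of_mem _ ha
    have hdec : ∃ a M', M = a ::ₘ (q / a) ::ₘ M' := by
      by_cases hne : ∃ a ∈ M, q / a ≠ a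
      · obtain ⟨a, ha, hna⟩ := hne
        refine ⟨a, (M.erase a).erase (q / a), ?_⟩
        rw [Multiset.cons_erase ((Multiset.mem_erase_of_ne hna).mpr (hqa a ha)), Multiset.cons_erase ha]
      · push Not at hne
        by_cases hnd : M.Nodup
        · exfalso
          have hsq : ∀ a ∈ M, a * a = q := fun a ha => by
            conv_lhs => arg 2; rw [← hne a ha]
            rw [mul_div_cancel₀ _ (h0 a ha)]
          obtain ⟨a, ha⟩ := Multiset.card_pos_iff_exists_mem.mp (show 0 < M.card by omega)
          have hsub : M ≤ a ::ₘ {-a} := by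
            rw [Multiset.le_iff_subset hnd]
            intro b hb
            rcases eq_or_eq_neg_of_sq_eq_sq b a (by rw [sq, sq, hsq b hb, hsq a ha]) with h | h <;>
              simp [h]
          have hg : g = 0 := by
            have := Multiset.card_le_card hsub
            simp at this
            omega
          subst hg
          have hMeq : M = a ::ₘ {-a} := Multiset.eq_of_le_of_card_le hsub (by simp [hM])
          rw [hMeq] at hprod
          simp only [Multiset.prod_cons, Multiset.prod_singleton, zero_add, pow_one, mul_neg] at hprod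
          rw [hsq a ha] at hprod
          exact hq (by linear_combination (-1 / 2 : ℂ) * hprod)
        · obtain ⟨a, ha⟩ : ∃ a, 1 < M.count a := by
            by_contra! h
            exact hnd (Multiset.nodup_iff_count_le_one.mpr h)
          have ham : a ∈ M := Multiset.count_pos.mp (by omega)
          refine ⟨a, (M.erase a).erase a, ?_⟩
          rw [hne a ham, Multiset.cons_erase (Multiset.count_pos.mp (by
            rw [Multiset.count_erase_self]; omega)), Multiset.cons_erase ham]
    obtain ⟨a, M', rfl⟩ := hdec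
    have ha0 : a ≠ 0 := h0 a (by simp)
    have hinv' : M'.map (fun a => q / a) = M' := by
      rw [Multiset.map_cons, Multiset.map_cons, div_div_cancel₀ hq, Multiset.cons_swap] at hinv
      exact (Multiset.cons_inj_right _).mp ((Multiset.cons_inj_right _).mp hinv)
    have hprod' : M'.prod = q ^ g := by
      rw [Multiset.prod_cons, Multiset.prod_cons, ← mul_assoc, mul_div_cancel₀ _ ha0, pow_succ'] at hprod
      exact mul_left_cancel₀ hq hprod
    obtain ⟨f, hf, hfrev⟩ := ih M' (by simp at hM; omega) hinv' hprod'
    let F : Fin (2 * g + 1 + 1) → ℂ := Fin.cons a (Fin.snoc f (q / a))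
    refine ⟨F, ?_, ?_⟩
    · show (Finset.univ : Finset (Fin (2 * g + 1 + 1))).val.map F = _
      rw [Fin.univ_val_map] at hf ⊢
      rw [List.ofFn_succ]
      simp only [F, Fin.cons_zero, Fin.cons_succ]
      rw [List.ofFn_succ', List.concat_eq_append]
      simp only [Fin.snoc_castSucc, Fin.snoc_last]
      rw [← Multiset.cons_coe, ← Multiset.coe_add, hf, Multiset.coe_singleton, add_comm,
        Multiset.singleton_add]
    · show ∀ i : Fin (2 * g + 1 + 1), F i * F (Fin.rev i) = q
      intro i
      refine Fin.cases ?_ (fun j => ?_) i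
      · rw [Fin.rev_zero, ← Fin.succ_last]
        simp only [F, Fin.cons_zero, Fin.cons_succ, Fin.snoc_last]
        rw [mul_div_cancel₀ _ ha0]
      · refine Fin.lastCases ?_ (fun l => ?_) j
        · rw [Fin.succ_last, Fin.rev_last, ← Fin.succ_last]
          simp only [F, Fin.cons_zero, Fin.cons_succ, Fin.snoc_last]
          rw [div_mul_cancel₀ _ ha0]
        · rw [Fin.rev_succ, Fin.rev_castSucc, ← Fin.succ_castSucc]
          simp only [F, Fin.cons_succ, Fin.snoc_castSucc]
          exact hfrev l

theorem reflect_one_X_sub_C (α : ℂ) : reflect 1 (X - C α) = 1 - C α * X := by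
  ext n
  rw [coeff_reflect]
  rcases n with _ | _ | n
  · simp [revAt]
  · simp [revAt, coeff_one]
  · simp [revAt, coeff_one, coeff_X]

theorem reflect_prod_X_sub_C (M : Multiset ℂ) :
    reflect M.card (M.map fun α => X - C α).prod = (M.map fun α => 1 - C α * X).prod := by
  induction M using Multiset.induction with
  | empty => simp
  | cons a s ih =>
    rw [Multiset.map_cons, Multiset.map_cons, Multiset.prod_cons, Multiset.prod_cons, Multiset.card_cons,
      add_comm, reflect_mul _ _ (by simp) (by simp [natDegree_multiset_prod_X_sub_C_eq_card]),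
      reflect_one_X_sub_C, ih]

open FunFld in
variable {k K : Type*} [Field k] [Field K] [Algebra k K] [Finite k] in
theorem exists_roots_numerZ (hK : IsFunctionField k K) :
    ∃ α : Fin (2 * genus k K) → ℂ, (∀ i, IsIntegral ℤ (α i)) ∧
      PowerSeries.map (Int.castRingHom ℂ) (numerZ k K) =
        ((∏ i, (1 - C (α i) * X) : ℂ[X]) : PowerSeries ℂ) ∧
      ∀ i, α i * α (Fin.rev i) = (Nat.card k : ℂ) := by
  classical
  obtain ⟨p, hp, hd⟩ := exists_poly_numerZ hK
  set g := genus k K
  set q : ℂ := (Nat.card k : ℂ) with hqd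
  have hq : q ≠ 0 := by
    have := two_le_card hK
    rw [hqd]; exact_mod_cast (show Nat.card k ≠ 0 by omega)
  have hc : ∀ i : ℕ, p.coeff i = lcoef k K i := fun i => by
    rw [← coeff_coe, hp, coeff_numerZ]
  set R := reflect (2 * g) p
  have hRd : R.natDegree ≤ 2 * g := by
    refine natDegree_le_iff_coeff_eq_zero.mpr fun n hn => ?_
    rw [coeff_reflect, revAt_eq_self_of_lt hn]
    exact coeff_eq_zero_of_natDegree_lt (lt_of_le_of_lt hd hn)
  have hR2g : R.coeff (2 * g) = 1 := by
    rw [coeff_reflect, revAt_le le_rfl, Nat.sub_self, hc, Nat.cast_zero, lcoef_zero hK]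
  have hRm : R.Monic := monic_of_natDegree_le_of_coeff_eq_one _ hRd hR2g
  set RC := R.map (Int.castRingHom ℂ) with hRC
  have hRCm : RC.Monic := hRm.map _
  have hRCd : RC.natDegree = 2 * g := by
    rw [hRC, hRm.natDegree_map]
    exact le_antisymm hRd (le_natDegree_of_ne_zero (by rw [hR2g]; exact one_ne_zero))
  have hsplit : RC.Splits := IsAlgClosed.splits RC
  set M := RC.roots
  have hcard : M.card = 2 * g := by rw [← hRCd]; exact hsplit.natDegree_eq_card_roots.symm
  have hprodM : RC = (M.map fun α => X - C α).prod := hsplit.eq_prod_roots_of_monic hRCm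
  have hint : ∀ α ∈ M, IsIntegral ℤ α := fun α hα => by
    refine ⟨R, hRm, ?_⟩
    have h := (mem_roots'.mp hα).2
    rw [IsRoot.def, hRC, eval_map] at h
    exact h
  set pC := p.map (Int.castRingHom ℂ) with hpC
  have hpprod : pC = (M.map fun α => 1 - C α * X).prod := by
    rw [← reflect_prod_X_sub_C, ← hprodM, hcard, hRC, hpC]
    ext i
    rw [coeff_map, coeff_reflect, coeff_map, coeff_reflect, revAt_invol]
  have hRscale : RC = C (q ^ g) * pC.comp (C q⁻¹ * X) := by
    ext i
    rw [coeff_C_mul, comp_C_mul_X_coeff, hRC, coeff_map, coeff_reflect, hpC, coeff_map, eq_intCast,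
      eq_intCast]
    by_cases hi : i ≤ 2 * g
    · rw [revAt_le hi, hc, hc, ← coeff_numerZ, ← coeff_numerZ]
      have h := coeff_numerZ_symm hK hi
      have h' : (((PowerSeries.coeff (2 * g - i)) (numerZ k K) : ℤ) : ℂ) =
          q ^ ((g : ℤ) - i) * (((PowerSeries.coeff i) (numerZ k K) : ℤ) : ℂ) := by
        have := congrArg (fun r : ℚ => (r : ℂ)) h
        push_cast at this
        exact this
      rw [h', zpow_sub₀ hq, zpow_natCast, zpow_natCast, inv_pow]
      ring
    · rw [revAt_eq_self_of_lt (not_le.mp hi), coeff_eq_zero_of_natDegree_lt (by omega)]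
      simp
  have h0M : ∀ α ∈ M, α ≠ 0 := by
    intro α hα h0
    subst h0
    have h := (mem_roots'.mp hα).2
    rw [IsRoot.def, ← coeff_zero_eq_eval_zero, hRscale, coeff_C_mul, comp_C_mul_X_coeff, hpC, coeff_map,
      hc, Nat.cast_zero, lcoef_zero hK] at h
    simp [hq] at h
  have hinv : M.map (fun a => q / a) = M := by
    set M₂ := M.map (fun a => q / a)
    have e : RC = C (q ^ g * (M.map fun α => -(α / q)).prod) * (M₂.map fun β => X - C β).prod := by
      rw [hRscale, hpprod, multiset_prod_comp, C_mul, mul_assoc]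
      congr 1
      rw [map_multiset_prod (C : ℂ →+* ℂ[X]), Multiset.map_map, Multiset.map_map, Multiset.map_map,
        ← Multiset.prod_map_mul]
      refine congrArg Multiset.prod (Multiset.map_congr rfl fun α hα => ?_)
      have hα0 := h0M α hα
      simp only [Function.comp, sub_comp, mul_comp, C_comp, X_comp, one_comp]
      rw [mul_sub, ← C_mul, ← mul_assoc, ← C_mul, show -(α / q) * (q / α) = -1 by field_simp,
        show α * q⁻¹ = α / q by ring]
      simp only [map_neg, map_one]
      ring
    have hm2 : ((M₂.map fun β => X - C β).prod).Monic :=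
      monic_multiset_prod_of_monic _ _ fun β _ => monic_X_sub_C β
    have hone : q ^ g * (M.map fun α => -(α / q)).prod = 1 := by
      have := congrArg leadingCoeff e
      rwa [hRCm.leadingCoeff, leadingCoeff_mul, leadingCoeff_C, hm2.leadingCoeff, mul_one, eq_comm] at this
    rw [hone, C_1, one_mul] at e
    show M₂ = RC.roots
    rw [e, roots_multiset_prod_X_sub_C]
  have hprod : M.prod = q ^ g := by
    have h1 : RC.coeff 0 = q ^ g := by
      rw [hRscale, coeff_C_mul, comp_C_mul_X_coeff, hpC, coeff_map, hc, Nat.cast_zero, lcoef_zero hK]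
      simp
    rw [hsplit.coeff_zero_eq_prod_roots_of_monic hRCm, hRCd] at h1
    simpa [pow_mul] using h1
  obtain ⟨f, hf, hrev⟩ := exists_pairing q hq g M hcard hinv hprod
  refine ⟨f, fun i => hint _ (hf ▸ Multiset.mem_map_of_mem f (Finset.mem_univ i)), ?_, hrev⟩
  rw [← hp, ← Polynomial.polynomial_map_coe, ← hpC, hpprod, ← hf, Multiset.map_map]
  rfl

end Groth.FunFld1
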