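import Groth.Agent.FunFld1.Zeta.ConstPlaces
import Mathlib.FieldTheory.Finite.Extension
import Mathlib.FieldTheory.IsAlgClosed.AlgebraicClosure

/-!
Existence of constant field extensions and F. K. Schmidt's theorem: a function field over a finite
field has a divisor of degree one.
-/

set_option linter.style.haveILetI false
set_option linter.unusedSectionVars false

namespace Groth.FunFld1

open WithZero FunFld

section Exist

variable (k K : Type*) [Field k] [Field K] [Algebra k K] [Finite k]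

theorem exists_constExt_field (r : ℕ) (hr : r ≠ 0) :
    ∃ (k' : Type) (_ : Field k') (_ : Finite k') (_ : Algebra k k')
      (E : IntermediateField K (AlgebraicClosure K)) (_ : Algebra k' E),
      IsScalarTower k k' E ∧ Algebra.adjoin K (Set.range (algebraMap k' E)) = ⊤ ∧
        Module.finrank k k' = r := by
  obtain ⟨p, hp⟩ := CharP.exists k
  haveI : Fact p.Prime := ⟨(CharP.char_is_prime_or_zero k p).resolve_right
    (CharP.char_ne_zero_of_finite k p)⟩
  haveI : NeZero r := ⟨hr⟩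
  let k' := FiniteField.Extension k p r
  let ι : k' →ₐ[k] AlgebraicClosure K := IsAlgClosed.lift
  let E : IntermediateField K (AlgebraicClosure K) := IntermediateField.adjoin K (Set.range ι)
  let ιE : k' →+* E :=
    ι.toRingHom.codRestrict E fun c => IntermediateField.subset_adjoin K _ ⟨c, rfl⟩
  letI : Algebra k' E := ιE.toAlgebra
  refine ⟨k', inferInstance, inferInstance, inferInstance, E, inferInstance,
    IsScalarTower.of_algebraMap_eq fun c => ?_, ?_, FiniteField.finrank_extension k p r⟩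
  · refine Subtype.ext ?_
    show algebraMap k (AlgebraicClosure K) c = ι (algebraMap k k' c)
    rw [ι.commutes]
  · refine eq_top_iff.mpr fun z _ => ?_
    have halg : ∀ x ∈ Set.range ι, IsAlgebraic K x := by
      rintro _ ⟨c, rfl⟩
      exact Algebra.IsAlgebraic.isAlgebraic _
    have hz : z.1 ∈ Algebra.adjoin K (Set.range ι) := by
      rw [← IntermediateField.adjoin_toSubalgebra_of_isAlgebraic halg]
      exact z.2
    have hmap : (Algebra.adjoin K (Set.range (algebraMap k' E))).map E.val =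
        Algebra.adjoin K (Set.range ι) := by
      rw [AlgHom.map_adjoin, ← Set.range_comp]
      rfl
    rw [← hmap, Subalgebra.mem_map] at hz
    obtain ⟨w, hw, hwz⟩ := hz
    rwa [← Subtype.ext hwz]

end Exist

variable {k K : Type*} [Field k] [Field K] [Algebra k K] [Finite k]

theorem pow_le_aZ (hK : IsFunctionField k K) {n : ℕ} (hn : 2 * genus k K ≤ n)
    (h : ∃ D : Divisor k K, D.deg = n) :
    Nat.card k ^ n ≤ Nat.card k ^ (genus k K + 1) * aZ k K n := by
  have h1 := card_sub_one_mul_aZ hK (n := (n : ℤ))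
  rw [cs_of_deg_ge hK (by omega), ncard_ClN hK h,
    show ((n : ℤ) + 1 - genus k K).toNat = (n - genus k K) + 1 by omega] at h1
  set q : ℕ := Nat.card k with hqd
  set g := genus k K
  have hq : (2 : ℤ) ≤ q := by exact_mod_cast two_le_card hK
  have hh : (1 : ℤ) ≤ classNum k K := by exact_mod_cast classNum_pos hK
  have hA : (1 : ℤ) ≤ (q : ℤ) ^ (n - g) := one_le_pow₀ (by omega)
  have h2 : (q : ℤ) ^ (n - g) ≤ (q : ℤ) * aZ k K n := by
    have h3 : (q : ℤ) ^ (n - g) ≤ (q : ℤ) ^ (n - g + 1) - 1 := by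
      rw [pow_succ]
      nlinarith
    have h4 : (q : ℤ) ^ (n - g + 1) - 1 ≤ (classNum k K : ℤ) * ((q : ℤ) ^ (n - g + 1) - 1) :=
      le_mul_of_one_le_left (by linarith) hh
    nlinarith
  have h2' : q ^ (n - g) ≤ q * aZ k K n := by exact_mod_cast h2
  calc q ^ n = q ^ g * q ^ (n - g) := by rw [← pow_add]; congr 1; omega
    _ ≤ q ^ g * (q * aZ k K n) := Nat.mul_le_mul_left _ h2'
    _ = q ^ (g + 1) * aZ k K n := by ring

theorem aZ_le_pow (hK : IsFunctionField k K) {n : ℕ} (hn : 2 * genus k K ≤ n) :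
    aZ k K n ≤ classNum k K * Nat.card k ^ (n + 1) := by
  have h1 := card_sub_one_mul_aZ hK (n := (n : ℤ))
  rw [cs_of_deg_ge hK (by omega)] at h1
  set q : ℕ := Nat.card k with hqd
  have hq : 2 ≤ q := two_le_card hK
  have hC : (ClN k K (n : ℤ)).ncard ≤ classNum k K := by
    by_cases h : ∃ D : Divisor k K, D.deg = n
    · rw [ncard_ClN hK h]
    · rw [show ClN k K (n : ℤ) = ∅ from Set.eq_empty_of_forall_notMem fun c hc => by
        obtain ⟨D, hD, -⟩ := hc
        exact h ⟨D, hD⟩]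
      simp
  have hA : (q : ℤ) ^ ((n : ℤ) + 1 - genus k K).toNat ≤ (q : ℤ) ^ (n + 1) :=
    pow_le_pow_right₀ (by omega) (by omega)
  have h2 : ((q : ℤ) - 1) * aZ k K n ≤ (classNum k K : ℤ) * (q : ℤ) ^ (n + 1) := by
    rw [h1]
    have h3 := mul_le_mul (show ((ClN k K (n : ℤ)).ncard : ℤ) ≤ classNum k K by exact_mod_cast hC) hA
      (by positivity) (by positivity)
    linarith [Int.natCast_nonneg (ClN k K (n : ℤ)).ncard]
  have h4 : (aZ k K n : ℤ) ≤ (classNum k K : ℤ) * (q : ℤ) ^ (n + 1) := by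
    refine le_trans (le_mul_of_one_le_left (by positivity) ?_) h2
    omega
  exact_mod_cast h4

/-- F. K. Schmidt. -/
theorem exists_deg_one_divisor (hK : IsFunctionField k K) : ∃ D : Divisor k K, D.deg = 1 := by
  classical
  have hF := IsFF.of_isFunctionField hK
  obtain ⟨g0, hg0⟩ := Int.subgroup_cyclic (degHom k K).range
  rw [← AddSubgroup.zmultiples_eq_closure] at hg0
  obtain ⟨P₀⟩ := hF.nonempty_place
  set δ := g0.natAbs with hδ
  have hdvdP : ∀ P : Place k K, δ ∣ P.deg := fun P => by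
    have hmem : ((P.deg : ℤ)) ∈ (degHom k K).range :=
      ⟨Finsupp.single P 1, by rw [degHom_eq_deg, deg_single, one_mul]⟩
    rw [hg0, Int.mem_zmultiples_iff] at hmem
    exact Int.natAbs_dvd_natAbs.mpr hmem
  obtain ⟨D₁, hD₁⟩ : ∃ D : Divisor k K, D.deg = δ := by
    have hmem : (δ : ℤ) ∈ (degHom k K).range := by
      rw [hg0, Int.mem_zmultiples_iff]
      exact Int.dvd_natAbs_self
    obtain ⟨D, hD⟩ := hmem
    exact ⟨D, (degHom_eq_deg D).symm.trans hD⟩
  have hδ0 : δ ≠ 0 := fun h => by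
    have := hdvdP P₀
    rw [h, zero_dvd_iff] at this
    have := hF.deg_pos P₀
    omega
  by_cases hδ1 : δ = 1
  · exact ⟨D₁, by rw [hD₁, hδ1]; rfl⟩
  exfalso
  obtain ⟨k', _, _, _, E, _, ht, hgen, hrk⟩ := exists_constExt_field k K δ hδ0
  haveI := finiteDimensional_constExt hgen hK
  have hK' := isFunctionField_constExt k' hgen hK
  have hF' := IsFF.of_isFunctionField hK'
  -- two places above each place
  have htwo : ∀ P : Place k K, ∃ R₁ R₂ : Place k' E, R₁ ≠ R₂ ∧ IsOver (downPlace k k' R₁) P ∧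
      IsOver (downPlace k k' R₂) P ∧ δ * R₁.deg = P.deg ∧ δ * R₂.deg = P.deg := by
    intro P
    have key : ∀ Q ∈ (hF.above P : Finset (Place k E)), δ * (upPlace k k' Q).deg = P.deg ∧
        (hF.above P : Finset (Place k E)).card = δ := by
      intro Q hQ
      obtain ⟨-, hc, hd⟩ := constExt_fibre hgen hK (hF.mem_above.mp hQ)
      rw [hrk] at hd
      obtain ⟨d', hd'⟩ := hdvdP P
      have hpos : 0 < (upPlace k k' Q).deg := hF'.deg_pos _
      have h1 : (upPlace k k' Q).deg ∣ d' := (hd d').mpr ⟨1, by rw [mul_one, hd']⟩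
      have h2 : P.deg ∣ δ * (upPlace k k' Q).deg := (hd _).mp dvd_rfl
      rw [hd'] at h2
      have h3 : d' = (upPlace k k' Q).deg :=
        Nat.dvd_antisymm ((Nat.mul_dvd_mul_iff_left (Nat.pos_of_ne_zero hδ0)).mp h2) h1
      refine ⟨by rw [hd', h3], ?_⟩
      rw [hd', h3] at hc
      exact Nat.eq_of_mul_eq_mul_right hpos hc
    obtain ⟨Q, hQ⟩ := hF.exists_over (K' := E) P
    have hcard := (key Q (hF.mem_above.mpr hQ)).2
    obtain ⟨Q₁, hQ₁, Q₂, hQ₂, hne⟩ := Finset.one_lt_card.mp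
      (show 1 < (hF.above P : Finset (Place k E)).card by omega)
    exact ⟨upPlace k k' Q₁, upPlace k k' Q₂, fun h => hne ((placeEquiv k k').injective h),
      hF.mem_above.mp hQ₁, hF.mem_above.mp hQ₂, (key Q₁ hQ₁).1, (key Q₂ hQ₂).1⟩
  choose R₁ R₂ hne ho₁ ho₂ hd₁ hd₂ using htwo
  have hinj₁ : Function.Injective R₁ := fun a b h => over_unique (ho₁ a) (h ▸ ho₁ b)
  have hinj₂ : Function.Injective R₂ := fun a b h => over_unique (ho₂ a) (h ▸ ho₂ b)
  have hdisj : ∀ a b, R₁ a ≠ R₂ b := fun a b h => by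
    have hab : a = b := over_unique (ho₁ a) (h ▸ ho₂ b)
    subst hab
    exact hne a h
  have hdeg : ∀ (R : Place k K → Place k' E), (∀ P, δ * (R P).deg = P.deg) →
      ∀ D : Divisor k K, (δ : ℤ) * Divisor.deg (Finsupp.mapDomain R D : Divisor k' E) = D.deg := by
    intro R hR D
    induction D using Finsupp.induction_linear with
    | zero => simp [deg_zero]
    | add A B hA hB => rw [Finsupp.mapDomain_add, deg_add, mul_add, hA, hB, deg_add]
    | single P n =>
      rw [Finsupp.mapDomain_single, deg_single, deg_single, ← hR P]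
      push_cast; ring
  have hnn : ∀ (R : Place k K → Place k' E), Function.Injective R → ∀ D : Divisor k K, 0 ≤ D →
      (0 : Divisor k' E) ≤ Finsupp.mapDomain R D := by
    intro R hR D hD S
    by_cases hS : S ∈ Set.range R
    · obtain ⟨P, rfl⟩ := hS
      rw [Finsupp.mapDomain_apply hR]; exact hD P
    · rw [Finsupp.mapDomain_notin_range _ _ hS]; simp
  -- counting
  set q := Nat.card k with hq
  have hq' : Nat.card k' = q ^ δ := by
    haveI : Module.Finite k k' := Module.Finite.of_finite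
    rw [Module.natCard_eq_pow_finrank (K := k), hrk]
  set g := genus k K
  set g' := genus k' E
  set C := q ^ (2 * (g + 1)) * (classNum k' E * q ^ δ)
  set m := 4 * g + 2 * g' + C with hm
  let A : ℤ → Finset (Divisor k K) := fun n =>
    ((hF.finite_effective n).subset (t := {D | 0 ≤ D ∧ D.deg = n}) fun D hD => ⟨hD.1, hD.2.le⟩).toFinset
  let A' : Finset (Divisor k' E) :=
    ((hF'.finite_effective (m : ℤ)).subset (t := {D | 0 ≤ D ∧ D.deg = (m : ℤ)})
      fun D hD => ⟨hD.1, hD.2.le⟩).toFinset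
  have hAcard : ∀ n, (A n).card = aZ k K n := fun n => (Set.ncard_eq_toFinset_card _ _).symm
  have hA'card : A'.card = aZ k' E m := (Set.ncard_eq_toFinset_card _ _).symm
  set I := Finset.Icc (2 * g) (m - 2 * g)
  let Φ : (Σ _ : ℕ, Divisor k K × Divisor k K) → Divisor k' E := fun x =>
    Finsupp.mapDomain R₁ x.2.1 + Finsupp.mapDomain R₂ x.2.2
  set T := I.sigma fun i => A ((δ : ℤ) * i) ×ˢ A ((δ : ℤ) * ((m : ℤ) - i))
  have hmem : ∀ x ∈ T, (0 ≤ x.2.1 ∧ x.2.1.deg = (δ : ℤ) * x.1) ∧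
      (0 ≤ x.2.2 ∧ x.2.2.deg = (δ : ℤ) * ((m : ℤ) - x.1)) := by
    intro x hx
    simpa [T, A] using (Finset.mem_sigma.mp hx).2
  have hinjΦ : Set.InjOn Φ (T : Set _) := by
    rintro ⟨i, D1, D2⟩ hx ⟨j, E1, E2⟩ hy h
    have e1 : D1 = E1 := by
      ext P
      have h' := congrArg (fun G : Divisor k' E => G (R₁ P)) h
      simpa [Φ, Finsupp.mapDomain_apply hinj₁,
        Finsupp.mapDomain_notin_range D2 (R₁ P) (fun ⟨b, hb⟩ => hdisj P b hb.symm),
        Finsupp.mapDomain_notin_range E2 (R₁ P) (fun ⟨b, hb⟩ => hdisj P b hb.symm)] using h'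
    have e2 : D2 = E2 := by
      ext P
      have h' := congrArg (fun G : Divisor k' E => G (R₂ P)) h
      simpa [Φ, Finsupp.mapDomain_apply hinj₂,
        Finsupp.mapDomain_notin_range D1 (R₂ P) (fun ⟨b, hb⟩ => hdisj b P hb),
        Finsupp.mapDomain_notin_range E1 (R₂ P) (fun ⟨b, hb⟩ => hdisj b P hb)] using h'
    have ei : i = j := by
      have a := (hmem _ (Finset.mem_coe.mp hx)).1.2
      have b := (hmem _ (Finset.mem_coe.mp hy)).1.2
      simp only at a b
      rw [e1, b] at a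
      exact_mod_cast (mul_left_cancel₀ (by exact_mod_cast hδ0) a).symm
    subst e1; subst e2; subst ei; rfl
  have hmaps : ∀ x ∈ T, Φ x ∈ A' := by
    intro x hx
    obtain ⟨⟨a1, a2⟩, b1, b2⟩ := hmem x hx
    simp only [A', Set.Finite.mem_toFinset, Set.mem_ofPred_eq]
    refine ⟨add_nonneg (hnn R₁ hinj₁ _ a1) (hnn R₂ hinj₂ _ b1), ?_⟩
    have h1 := hdeg R₁ hd₁ x.2.1
    have h2 := hdeg R₂ hd₂ x.2.2
    apply mul_left_cancel₀ (show (δ : ℤ) ≠ 0 by exact_mod_cast hδ0)
    rw [deg_add, mul_add, h1, h2, a2, b2]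
    ring
  have hle := Finset.card_le_card_of_injOn Φ hmaps hinjΦ
  rw [Finset.card_sigma, hA'card] at hle
  have hexD : ∀ i : ℕ, ∃ D : Divisor k K, D.deg = ((δ * i : ℕ) : ℤ) := fun i =>
    ⟨i • D₁, by rw [deg_nsmul, hD₁]; push_cast; ring⟩
  have hlow : ∀ i ∈ I, q ^ (δ * m) ≤
      q ^ (2 * (g + 1)) * (A ((δ : ℤ) * i) ×ˢ A ((δ : ℤ) * ((m : ℤ) - i))).card := by
    intro i hi
    have hi' := Finset.mem_Icc.mp hi
    obtain ⟨j, hj⟩ : ∃ j, m = i + j := ⟨m - i, by omega⟩
    have hj' : (δ : ℤ) * ((m : ℤ) - i) = ((δ * j : ℕ) : ℤ) := by rw [hj]; push_cast; ring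
    rw [Finset.card_product, hAcard, hAcard, hj', show (δ : ℤ) * i = ((δ * i : ℕ) : ℤ) by push_cast; rfl]
    have hδpos : 1 ≤ δ := Nat.one_le_iff_ne_zero.mpr hδ0
    have hi2 : 2 * g ≤ δ * i := le_trans hi'.1 (Nat.le_mul_of_pos_left _ hδpos)
    have hj2 : 2 * g ≤ δ * j := le_trans (show 2 * g ≤ j by omega) (Nat.le_mul_of_pos_left _ hδpos)
    calc q ^ (δ * m) = q ^ (δ * i) * q ^ (δ * j) := by rw [← pow_add]; congr 1; rw [hj]; ring
      _ ≤ (q ^ (g + 1) * aZ k K ((δ * i : ℕ) : ℤ)) * (q ^ (g + 1) * aZ k K ((δ * j : ℕ) : ℤ)) :=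
        Nat.mul_le_mul (pow_le_aZ hK hi2 (hexD i)) (pow_le_aZ hK hj2 (hexD j))
      _ = _ := by ring
  have hsum := Finset.sum_le_sum hlow
  rw [← Finset.mul_sum, Finset.sum_const, smul_eq_mul, Nat.card_Icc] at hsum
  have hup := aZ_le_pow hK' (n := m) (by omega)
  rw [hq'] at hup
  have hqm : 0 < q ^ (δ * m) := pow_pos (by have := two_le_card hK; omega) _
  have hfin : (C + 1) * q ^ (δ * m) ≤ C * q ^ (δ * m) := by
    calc (C + 1) * q ^ (δ * m) ≤ (m - 2 * g + 1 - 2 * g) * q ^ (δ * m) :=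
          Nat.mul_le_mul_right _ (by omega)
      _ ≤ _ := hsum
      _ ≤ q ^ (2 * (g + 1)) * (classNum k' E * (q ^ δ) ^ (m + 1)) :=
          Nat.mul_le_mul_left _ (hle.trans hup)
      _ = C * q ^ (δ * m) := by
        rw [← pow_mul, show δ * (m + 1) = δ + δ * m by ring, pow_add]; ring
  exact absurd (Nat.le_of_mul_le_mul_right hfin hqm) (by omega)

end Groth.FunFld1
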